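import Groth.Agent.LeffEtLib.Pullback

/-!
# Restriction of a formal algebra to an open neighbourhood
-/

set_option autoImplicit false
set_option linter.style.haveILetI false
set_option linter.unusedSectionVars false

universe u

open CategoryTheory CategoryTheory.Limits AlgebraicGeometry TopologicalSpace Opposite
open ProjFormLib (ger res ger_res ger_smul exists_ger section_ext IsFrame exists_frame)

noncomputable section

namespace LeffEt

variable {X : Scheme.{u}}

theorem ger_sum {E : X.Modules} {y : X} {V : X.Opens} (hy : y ∈ V) {ι : Type*} [Fintype ι] (c : ι → Γ(X, V))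
    (s : ι → Γ(E, V)) :
    ger E y hy (∑ i, c i • s i) = ∑ i, X.presheaf.germ V y hy (c i) • ger E y hy (s i) :=
  (map_sum (E.presheaf.germ V y hy).hom _ _).trans (Finset.sum_congr rfl fun i _ => ger_smul E y hy _ _)

/-- Sections forming bases over all smaller opens form a frame. -/
theorem isFrame_of_bijective {E : X.Modules} {n : ℕ} {V : X.Opens} {b : Fin n → Γ(E, V)}
    (h : ∀ (W : X.Opens) (hW : W ≤ V), Function.Bijective fun c : Fin n → Γ(X, W) => ∑ i, c i • res E hW (b i)) :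
    IsFrame E b := by
  intro y hy
  have hg : ∀ (W : X.Opens) (hW : W ≤ V) (hyW : y ∈ W) (c : Fin n → Γ(X, W)),
      ger E y hyW (∑ i, c i • res E hW (b i)) =
        Fintype.linearCombination (X.presheaf.stalk y) (fun i => ger E y hy (b i))
          fun i => X.presheaf.germ W y hyW (c i) := fun W hW hyW c => by
    rw [ger_sum, Fintype.linearCombination_apply]
    exact Finset.sum_congr rfl fun i _ => by rw [ger_res]
  refine ⟨(injective_iff_map_eq_zero _).2 fun a ha => funext fun i => ?_, fun s => ?_⟩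
  · choose Wi hWi r hr using fun k => X.presheaf.exists_germ_eq (x := y) (a k)
    let W₀ : X.Opens := V ⊓ Finset.univ.inf Wi
    have hW₀ : y ∈ W₀ := ⟨hy, Finset.inf_induction (p := fun W : X.Opens => y ∈ W) trivial
      (fun _ h₁ _ h₂ => ⟨h₁, h₂⟩) fun k _ => hWi k⟩
    have hle : ∀ k, W₀ ≤ Wi k := fun k => inf_le_right.trans (Finset.inf_le (Finset.mem_univ k))
    have hc : ∀ k, X.presheaf.germ W₀ y hW₀ (rr (hle k) (r k)) = a k := fun k =>
      (X.presheaf.germ_res_apply (homOfLE (hle k)) y hW₀ (r k)).trans (hr k)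
    have h0 : ger E y hW₀ (∑ k, rr (hle k) (r k) • res E inf_le_left (b k)) = ger E y hW₀ 0 := by
      rw [hg, funext hc, ha]
      exact (map_zero (E.presheaf.germ W₀ y hW₀).hom).symm
    obtain ⟨W, hyW, i₁, i₂, e⟩ := E.presheaf.germ_eq y hW₀ hW₀ _ _ h0
    obtain rfl : i₁ = i₂ := Subsingleton.elim _ _
    have e' : res E i₁.le (∑ k, rr (hle k) (r k) • res E inf_le_left (b k)) = 0 :=
      e.trans (map_zero (E.presheaf.map i₁.op).hom)
    have hz := (h W (i₁.le.trans inf_le_left)).1 (a₁ := fun k => rr i₁.le (rr (hle k) (r k))) (a₂ := fun _ => 0)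
      (Eq.trans (Eq.trans (Finset.sum_congr rfl fun k _ => by rw [res_res])
        ((res_eq_sum i₁.le fun k => rr (hle k) (r k)).symm.trans e')) (by simp))
    show a i = 0
    rw [← hc i, ← X.presheaf.germ_res_apply i₁ y hyW]
    show X.presheaf.germ W y hyW (rr i₁.le (rr (hle i) (r i))) = 0
    rw [congrFun hz i, map_zero]
  · obtain ⟨U, hyU, t, rfl⟩ := exists_ger E y s
    obtain ⟨c, hc⟩ := (h (U ⊓ V) inf_le_right).2 (res E inf_le_left t)
    have hm : y ∈ U ⊓ V := ⟨hyU, hy⟩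
    exact ⟨_, (hg _ _ hm c).symm.trans ((congrArg (ger E y hm) hc).trans (ger_res _ _ _ _ _))⟩

variable {X' : Scheme.{u}} (j : X' ⟶ X) [IsOpenImmersion j]

theorem restrict_smul' (E : X.Modules) {V : X'.Opens} (r : Γ(X', V)) (x : Γ(E.restrict j, V)) :
    r • x = ((j.appIso V).inv r • (show Γ(E, j ''ᵁ V) from x) : Γ(E, j ''ᵁ V)) := rfl

theorem isFrame_image {E : X.Modules} {n : ℕ} {V : X'.Opens} {b : Fin n → Γ(E.restrict j, V)}
    (hb : IsFrame (E.restrict j) b) : IsFrame E (fun i => (show Γ(E, j ''ᵁ V) from b i)) := by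
  refine isFrame_of_bijective fun W hW => ?_
  obtain ⟨W', rfl⟩ : ∃ W' : X'.Opens, j ''ᵁ W' = W := ⟨j ⁻¹ᵁ W, by
    rw [j.image_preimage_eq_opensRange_inf]
    exact inf_eq_right.2 (hW.trans (j.image_le_opensRange V))⟩
  have hW' : W' ≤ V := (j.image_le_image_iff _ _).1 hW
  have hbij := bijective_linearCombination (hb.res hW')
  have e : (fun c : Fin n → Γ(X, j ''ᵁ W') => ∑ i, c i • res E hW (show Γ(E, j ''ᵁ V) from b i)) =
      (fun z : Γ(E.restrict j, W') => (show Γ(E, j ''ᵁ W') from z)) ∘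
        Fintype.linearCombination Γ(X', W') (fun i => res (E.restrict j) hW' (b i)) ∘
          fun c i => (j.appIso W').hom (c i) := funext fun c => by
    simp only [Function.comp_apply, Fintype.linearCombination_apply]
    refine Finset.sum_congr rfl fun i _ => ?_
    refine Eq.trans ?_ (restrict_smul' j E ((j.appIso W').hom (c i)) _).symm
    refine congrArg₂ (fun (r : Γ(X, j ''ᵁ W')) (y : Γ(E, j ''ᵁ W')) => r • y) ?_ rfl
    exact ((j.appIso W').commRingCatIsoToRingEquiv.symm_apply_apply (c i)).symm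
  rw [e]
  exact Function.bijective_id.comp (hbij.comp ((Equiv.piCongrRight fun _ =>
    (j.appIso W').commRingCatIsoToRingEquiv.toEquiv).bijective))

theorem isFrame_preimage {E : X.Modules} {n : ℕ} {V : X'.Opens} {b : Fin n → Γ(E, j ''ᵁ V)}
    (hb : IsFrame E b) : IsFrame (E.restrict j) (fun i => (show Γ(E.restrict j, V) from b i)) := by
  refine isFrame_of_bijective fun W hW => ?_
  have hW' : j ''ᵁ W ≤ j ''ᵁ V := j.image_mono hW
  have hbij := bijective_linearCombination (hb.res hW')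
  have e : (fun c : Fin n → Γ(X', W) => ∑ i, c i • res (E.restrict j) hW (show Γ(E.restrict j, V) from b i)) =
      (fun z : Γ(E, j ''ᵁ W) => (show Γ(E.restrict j, W) from z)) ∘
        Fintype.linearCombination Γ(X, j ''ᵁ W) (fun i => res E hW' (b i)) ∘
          fun c i => (j.appIso W).inv (c i) := funext fun c => by
    simp only [Function.comp_apply, Fintype.linearCombination_apply]
    exact Finset.sum_congr rfl fun i _ => restrict_smul' j E (c i) _
  rw [e]
  exact Function.bijective_id.comp (hbij.comp ((Equiv.piCongrRight fun _ =>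
    (j.appIso W).symm.commRingCatIsoToRingEquiv.toEquiv).bijective))

theorem hasFrame_image {E : X.Modules} {V : X'.Opens} (h : HasFrame (E.restrict j) V) : HasFrame E (j ''ᵁ V) := by
  obtain ⟨n, b, hb⟩ := h
  exact ⟨n, _, isFrame_image j hb⟩

theorem framed_image {E : X.Modules} {V : X'.Opens} (h : Framed (E.restrict j) V) : Framed E (j ''ᵁ V) :=
  ⟨h.1.image_of_isOpenImmersion j, hasFrame_image j h.2⟩

theorem isFinLocFree_restrict {E : X.Modules} (hE : FlatMod.IsFinLocFree E) :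
    FlatMod.IsFinLocFree (E.restrict j) := CohCmpLib.isFinLocFree_of_frames fun x => by
  obtain ⟨U, n, b, hxU, hb⟩ := exists_frame hE (j x)
  exact ⟨j ⁻¹ᵁ U, n, _, hxU, isFrame_preimage j (hb.res ((j.image_preimage_eq_opensRange_inf U).le.trans
    inf_le_right))⟩

/-- A transition of levels in restricted coordinates. -/
theorem app_lift {R : Scheme.{u}} {g : R ⟶ X} (g' : R ⟶ X') (hg : g' ≫ j = g) (V : X'.Opens) (r : Γ(X', V))
    (h : g' ⁻¹ᵁ V ≤ g ⁻¹ᵁ (j ''ᵁ V)) :
    rr h (g.app (j ''ᵁ V) ((j.appIso V).inv r)) = g'.app V r := by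
  subst hg
  have e : (j.appIso V).inv ≫ (g' ≫ j).appLE (j ''ᵁ V) (g' ⁻¹ᵁ V) h = g'.app V := by
    rw [← Scheme.Hom.appLE_comp_appLE g' j (j ''ᵁ V) V (g' ⁻¹ᵁ V) (j.preimage_image_eq V).ge le_rfl,
      ← Category.assoc, Scheme.Hom.appIso_inv_appLE, Scheme.Hom.app_eq_appLE, Scheme.Hom.map_appLE]
  exact congr($e r)

theorem rr_rr {Z : Scheme.{u}} {U V W : Z.Opens} (h : V ≤ U) (h' : W ≤ V) (x : Γ(Z, U)) :
    rr h' (rr h x) = rr (h'.trans h) x := by
  show (Z.presheaf.map _ ≫ Z.presheaf.map _) x = _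
  rw [← Z.presheaf.map_comp]
  rfl

theorem appLE_rr {Z W : Scheme.{u}} (t : Z ⟶ W) {U U' : W.Opens} {V V' : Z.Opens} (h : U' ≤ U) (e : V' ≤ t ⁻¹ᵁ U')
    (h' : V' ≤ V) (e' : V ≤ t ⁻¹ᵁ U) (x : Γ(W, U)) : t.appLE U' V' e (rr h x) = rr h' (t.appLE U V e' x) := by
  show (W.presheaf.map _ ≫ t.appLE U' V' e) x = (t.appLE U V e' ≫ Z.presheaf.map _) x
  rw [Scheme.Hom.map_appLE, Scheme.Hom.appLE_map]

namespace Pre

variable {j} {𝓙 : X.IdealSheafData} {E : X.Modules} (F : Pre 𝓙 E)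

theorem preimage_eq {R : Scheme.{u}} {g : R ⟶ X} (g' : R ⟶ X') (hg : g' ≫ j = g) (V : X'.Opens) :
    g' ⁻¹ᵁ V = g ⁻¹ᵁ (j ''ᵁ V) := by
  rw [← hg, Scheme.Hom.comp_preimage, j.preimage_image_eq]

theorem bijective_rr {Z : Scheme.{u}} {U V : Z.Opens} (e : V = U) : Function.Bijective (rr e.le) := by
  subst e
  rw [show rr (le_refl V) = RingHom.id _ from RingHom.ext fun x => congr($(Z.presheaf.map_id (op V)) x)]
  exact Function.bijective_id

theorem ideal_image {R : X.IdealSheafData} {V : X'.Opens} (hV : IsAffineOpen V) (a : Γ(X', V)) :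
    a ∈ (R.comap j).ideal ⟨V, hV⟩ ↔ (j.appIso V).inv a ∈ R.ideal ⟨j ''ᵁ V, hV.image_of_isOpenImmersion j⟩ := by
  rw [Scheme.IdealSheafData.ideal_comap_of_isOpenImmersion]
  exact Iff.rfl

variable (j) (hsub : ∀ n, Set.range (F.g n) ⊆ Set.range j)

/-- The structure maps into the neighbourhood. -/
def restrictG (n : ℕ) : F.R n ⟶ X' := IsOpenImmersion.lift j (F.g n) (hsub n)

theorem restrictG_ι (n : ℕ) : F.restrictG j hsub n ≫ j = F.g n := IsOpenImmersion.lift_fac _ _ _

/-- The restriction of a formal algebra along an open immersion containing its levels. -/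
def restrict (hE : FlatMod.IsFinLocFree (E.restrict j)) : FAlg (𝓙.comap j) (E.restrict j) where
  R := F.R
  g := F.restrictG j hsub
  t := F.t
  ht n := by rw [← cancel_mono j, Category.assoc, restrictG_ι, restrictG_ι, F.ht]
  hE := hE
  κ n V := AddMonoidHom.mk'
    (fun x => rr (preimage_eq _ (F.restrictG_ι j hsub n) V).le (F.κ n (j ''ᵁ V) (show Γ(E, j ''ᵁ V) from x)))
    fun x y => (congrArg (rr _) (map_add (F.κ n (j ''ᵁ V)) _ _)).trans (map_add _ _ _)
  κ_smul n V r x := by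
    show rr _ (F.κ n (j ''ᵁ V) ((j.appIso V).inv r • (show Γ(E, j ''ᵁ V) from x))) = _
    rw [F.κ_smul, map_mul, app_lift j _ (F.restrictG_ι j hsub n)]
    rfl
  κ_res n {V W} h x := by
    refine ((rr_rr _ _ _).trans ?_).trans (congrArg (rr (preimage_eq _ (F.restrictG_ι j hsub n) W).le)
      (F.κ_res n (j.image_mono h) (show Γ(E, j ''ᵁ V) from x)))
    exact (rr_rr _ _ _).symm
  κ_t n V x := (appLE_rr (F.t n) _ _ _ (congrArg (fun f : F.R n ⟶ X => f ⁻¹ᵁ (j ''ᵁ V)) (F.ht n)).ge _).trans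
    (congrArg (rr (preimage_eq _ (F.restrictG_ι j hsub n) V).le) (F.κ_t n (j ''ᵁ V) (show Γ(E, j ''ᵁ V) from x)))
  κ_surj n {V} hV z := by
    obtain ⟨z', rfl⟩ := (bijective_rr (preimage_eq _ (F.restrictG_ι j hsub n) V)).2 z
    obtain ⟨x, rfl⟩ := F.κ_surj n (framed_image j hV) z'
    exact ⟨x, rfl⟩
  κ_ker n {V} hV {r} {b} hb c := by
    have hk := F.κ_ker n (hV.image_of_isOpenImmersion j) (isFrame_image j hb) fun i => (j.appIso V).inv (c i)
    show rr _ (F.κ n (j ''ᵁ V) (∑ i, (j.appIso V).inv (c i) • (show Γ(E, j ''ᵁ V) from b i))) = 0 ↔ _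
    rw [map_eq_zero_iff _ (bijective_rr (preimage_eq _ (F.restrictG_ι j hsub n) V)).1, hk]
    refine forall_congr' fun i => ?_
    rw [← FComplLib.comap_pow_succ j 𝓙 n, ideal_image]
  etale0 {V} hV hI := by
    have hV' := framed_image j hV
    have hI' : ∀ a ∈ (𝓙 ^ (0 + 1)).ideal ⟨j ''ᵁ V, hV'.1⟩, ((F.g 0).app (j ''ᵁ V)).hom a = 0 :=
      fun a ha => F.app_mem 0 hV' ha
    have het := F.etale0 hV' hI'
    let e : Γ(X, j ''ᵁ V) ≃+* Γ(X', V) := (j.appIso V).commRingCatIsoToRingEquiv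
    let ρ : Γ(F.R 0, F.g 0 ⁻¹ᵁ (j ''ᵁ V)) →+* Γ(F.R 0, F.restrictG j hsub 0 ⁻¹ᵁ V) :=
      rr (preimage_eq _ (F.restrictG_ι j hsub 0) V).le
    have hIJ : (𝓙 ^ (0 + 1)).ideal ⟨j ''ᵁ V, hV'.1⟩ =
        Ideal.comap e.toRingHom (((𝓙.comap j) ^ (0 + 1)).ideal ⟨V, hV.1⟩) := by
      ext a
      rw [Ideal.mem_comap, ← FComplLib.comap_pow_succ j 𝓙 0, ideal_image]
      exact iff_of_eq (congrArg (· ∈ (𝓙 ^ (0 + 1)).ideal ⟨j ''ᵁ V, hV'.1⟩) (e.symm_apply_apply a).symm)
    let q := Ideal.quotientEquiv ((𝓙 ^ (0 + 1)).ideal ⟨j ''ᵁ V, hV'.1⟩)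
      (((𝓙.comap j) ^ (0 + 1)).ideal ⟨V, hV.1⟩) e
      ((Ideal.map_comap_of_surjective e.toRingHom e.surjective _).symm.trans (congrArg (Ideal.map e.toRingHom) hIJ.symm))
    have hfac : Ideal.Quotient.lift _ ((F.restrictG j hsub 0).app V).hom hI =
        (ρ.comp (Ideal.Quotient.lift _ ((F.g 0).app (j ''ᵁ V)).hom hI')).comp q.symm.toRingHom := by
      refine Ideal.Quotient.ringHom_ext (RingHom.ext fun a => ?_)
      obtain ⟨b, rfl⟩ := e.surjective a
      show ((F.restrictG j hsub 0).app V).hom (e b) = ρ (Ideal.Quotient.lift _ _ hI' (q.symm (Ideal.Quotient.mk _ (e b))))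
      rw [show q.symm (Ideal.Quotient.mk _ (e b)) = Ideal.Quotient.mk _ b from (q.symm_apply_eq).2
          (Ideal.quotientEquiv_mk _ _ e _ b).symm,
        Ideal.Quotient.lift_mk]
      refine (app_lift j _ (F.restrictG_ι j hsub 0) V (e b)
        (preimage_eq _ (F.restrictG_ι j hsub 0) V).le).symm.trans ?_
      exact congrArg (fun y => ρ ((F.g 0).app (j ''ᵁ V) y)) (e.symm_apply_apply b)
    rw [hfac]
    exact RingHom.Etale.stableUnderComposition _ _ (RingHom.Etale.of_bijective q.symm.bijective)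
      (RingHom.Etale.stableUnderComposition _ _ het
        (RingHom.Etale.of_bijective (bijective_rr (preimage_eq _ (F.restrictG_ι j hsub 0) V))))

end Pre

end LeffEt

end
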