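import Groth.Agent.FEtLefLib.Glue
import Groth.Agent.HomDescLib.Basic
import Groth.Agent.GrTildeLib.TensLift
import Groth.Agent.DerBCLib.LocQ
import Groth.Agent.S1063

/-!
# Frames, and maps out of double and triple tensor products
-/

set_option autoImplicit false
set_option linter.style.haveILetI false

universe u

open CategoryTheory CategoryTheory.Limits AlgebraicGeometry TopologicalSpace Opposite
open ProjFormLib (ger res ger_res ger_smul section_ext IsFrame exists_frame phi phi_res phi_bijective shTm_res)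
open KFlatLib (tens shTm)

noncomputable section

namespace LeffEt

variable {X : Scheme.{u}}

/-- An open carrying a frame. -/
def HasFrame (E : X.Modules) (V : X.Opens) : Prop := ∃ (r : ℕ) (b : Fin r → Γ(E, V)), IsFrame E b

/-- An affine open carrying a frame. -/
def Framed (E : X.Modules) (V : X.Opens) : Prop := IsAffineOpen V ∧ HasFrame E V

variable {E : X.Modules}

theorem HasFrame.mono {V W : X.Opens} (h : HasFrame E V) (hWV : W ≤ V) : HasFrame E W := by
  obtain ⟨r, b, hb⟩ := h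
  exact ⟨r, _, hb.res hWV⟩

theorem Framed.mono {V W : X.Opens} (h : Framed E V) (hW : IsAffineOpen W) (hWV : W ≤ V) : Framed E W :=
  ⟨hW, h.2.mono hWV⟩

theorem exists_hasFrame_near (hE : FlatMod.IsFinLocFree E) (U : X.Opens) (x : X) (hx : x ∈ U) :
    ∃ V, HasFrame E V ∧ x ∈ V ∧ V ≤ U := by
  obtain ⟨U', r, b, hxU', hb⟩ := exists_frame hE x
  exact ⟨U ⊓ U', ⟨r, _, hb.res inf_le_right⟩, ⟨hx, hxU'⟩, inf_le_left⟩

theorem exists_framed_near (hE : FlatMod.IsFinLocFree E) (U : X.Opens) (x : X) (hx : x ∈ U) :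
    ∃ V, Framed E V ∧ x ∈ V ∧ V ≤ U := by
  obtain ⟨V, hV, hxV, hVU⟩ := exists_hasFrame_near hE U x hx
  obtain ⟨W, hW, hxW, hWV⟩ := exists_isAffineOpen_mem_and_subset (x := x) (U := V) hxV
  exact ⟨W, ⟨hW, hV.mono hWV⟩, hxW, fun y hy => hVU (hWV hy)⟩

theorem res_rfl {M : X.Modules} {V : X.Opens} (s : Γ(M, V)) : res M (le_refl V) s = s :=
  FEtLefLib.rm_self s

theorem res_res {M : X.Modules} {U V W : X.Opens} (h : V ≤ U) (h' : W ≤ V) (s : Γ(M, U)) :
    res M h' (res M h s) = res M (h'.trans h) s :=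
  FEtLefLib.rm_rm h h' s

theorem res_smul {M : X.Modules} {V W : X.Opens} (h : W ≤ V) (r : Γ(X, V)) (s : Γ(M, V)) :
    res M h (r • s) = X.presheaf.map (homOfLE h).op r • res M h s :=
  Scheme.Modules.map_smul _ _ _ _

theorem res_sum {M : X.Modules} {V W : X.Opens} (h : W ≤ V) {ι : Type*} (t : Finset ι) (s : ι → Γ(M, V)) :
    res M h (∑ i ∈ t, s i) = ∑ i ∈ t, res M h (s i) :=
  map_sum (M.presheaf.map (homOfLE h).op).hom _ _

theorem res_add {M : X.Modules} {V W : X.Opens} (h : W ≤ V) (s t : Γ(M, V)) :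
    res M h (s + t) = res M h s + res M h t :=
  map_add (M.presheaf.map (homOfLE h).op).hom _ _

theorem res_zero {M : X.Modules} {V W : X.Opens} (h : W ≤ V) : res M h (0 : Γ(M, V)) = 0 :=
  map_zero (M.presheaf.map (homOfLE h).op).hom

theorem bijective_linearCombination {V : X.Opens} {r : ℕ} {b : Fin r → Γ(E, V)} (hb : IsFrame E b) :
    Function.Bijective (Fintype.linearCombination Γ(X, V) b) := by
  have h : ⇑(Fintype.linearCombination Γ(X, V) b) = HomDescLib.lc b (le_refl V) := funext fun c => by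
    rw [Fintype.linearCombination_apply]
    exact Finset.sum_congr rfl fun i _ => by rw [res_rfl]
  rw [h]
  exact ⟨HomDescLib.lc_injective hb _, HomDescLib.lc_surjective hb _⟩

/-- The basis of the sections over the open of a frame. -/
def bas {V : X.Opens} {r : ℕ} {b : Fin r → Γ(E, V)} (hb : IsFrame E b) :
    Module.Basis (Fin r) Γ(X, V) Γ(E, V) :=
  Module.Basis.ofEquivFun (LinearEquiv.ofBijective _ (bijective_linearCombination hb)).symm

theorem bas_apply {V : X.Opens} {r : ℕ} {b : Fin r → Γ(E, V)} (hb : IsFrame E b) (i : Fin r) :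
    bas hb i = b i := by
  classical
  rw [bas, Module.Basis.coe_ofEquivFun]
  simp [Fintype.linearCombination_apply, Pi.single_apply]

theorem sum_bas {V : X.Opens} {r : ℕ} {b : Fin r → Γ(E, V)} (hb : IsFrame E b) (s : Γ(E, V)) :
    ∑ i, (bas hb).repr s i • b i = s := by
  refine Eq.trans (Finset.sum_congr rfl fun i _ => ?_) ((bas hb).sum_repr s)
  rw [bas_apply]

/-- The basis of the sections over a smaller open. -/
theorem res_eq_sum {V W : X.Opens} {r : ℕ} {b : Fin r → Γ(E, V)} (h : W ≤ V) (c : Fin r → Γ(X, V)) :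
    res E h (∑ i, c i • b i) = ∑ i, X.presheaf.map (homOfLE h).op (c i) • res E h (b i) := by
  rw [res_sum]
  exact Finset.sum_congr rfl fun i _ => res_smul h _ _

section Tensor

variable {A B C P : X.Modules}

theorem shTm_add_left {V : X.Opens} (a a' : Γ(A, V)) (b : Γ(B, V)) :
    shTm (a + a') b = shTm a b + shTm a' b := DerBCLib.shTm_add_left A B V a a' b

theorem shTm_add_right {V : X.Opens} (a : Γ(A, V)) (b b' : Γ(B, V)) :
    shTm a (b + b') = shTm a b + shTm a b' := DerBCLib.shTm_add_right A B V a b b'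

theorem shTm_smul_left {V : X.Opens} (r : Γ(X, V)) (a : Γ(A, V)) (b : Γ(B, V)) :
    shTm (r • a) b = r • shTm a b := DerBCLib.shTm_smul_left A B V r a b

theorem shTm_smul_right {V : X.Opens} (r : Γ(X, V)) (a : Γ(A, V)) (b : Γ(B, V)) :
    shTm a (r • b) = r • shTm a b := DerBCLib.shTm_smul_right A B V r a b

/-- The triple tensor of sections. -/
def tmul3 (V : X.Opens) :
    Γ(A, V) →ₗ[Γ(X, V)] Γ(B, V) →ₗ[Γ(X, V)] Γ(C, V) →ₗ[Γ(X, V)] Γ(tens (tens A B) C, V) :=
  LinearMap.mk₂ Γ(X, V)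
    (fun a b =>
      { toFun := fun c => shTm (shTm a b) c
        map_add' := fun u v => shTm_add_right _ u v
        map_smul' := fun r u => shTm_smul_right r _ u })
    (fun u v b => LinearMap.ext fun c => (congrArg (shTm · c) (shTm_add_left u v b)).trans (shTm_add_left _ _ c))
    (fun r u b => LinearMap.ext fun c => (congrArg (shTm · c) (shTm_smul_left r u b)).trans (shTm_smul_left r _ c))
    (fun a u v => LinearMap.ext fun c => (congrArg (shTm · c) (shTm_add_right a u v)).trans (shTm_add_left _ _ c))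
    (fun r a u => LinearMap.ext fun c => (congrArg (shTm · c) (shTm_smul_right r a u)).trans (shTm_smul_left r _ c))

theorem tmul3_apply {V : X.Opens} (a : Γ(A, V)) (b : Γ(B, V)) (c : Γ(C, V)) :
    tmul3 V a b c = shTm (shTm a b) c := rfl

theorem expand3 {R M₁ M₂ M₃ M₄ : Type*} [CommRing R] [AddCommGroup M₁] [AddCommGroup M₂] [AddCommGroup M₃]
    [AddCommGroup M₄] [Module R M₁] [Module R M₂] [Module R M₃] [Module R M₄] {n k : ℕ} (a : Fin n → M₁)
    (b : Fin k → M₂) (α : Fin n → R) (β : Fin k → R) {x : M₁} {y : M₂} (hx : ∑ i, α i • a i = x)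
    (hy : ∑ j, β j • b j = y) (w : M₃) (f : M₁ →ₗ[R] M₂ →ₗ[R] M₃ →ₗ[R] M₄) :
    f x y w = ∑ s, f (a (finProdFinEquiv.symm s).1) (b (finProdFinEquiv.symm s).2)
      ((α (finProdFinEquiv.symm s).1 * β (finProdFinEquiv.symm s).2) • w) := by
  subst hx hy
  simp only [map_sum, map_smul, LinearMap.sum_apply, LinearMap.smul_apply, smul_smul, Finset.smul_sum]
  rw [finProdFinEquiv.symm.sum_comp (fun p : Fin n × Fin k => (α p.1 * β p.2) • f (a p.1) (b p.2) w),
    Fintype.sum_prod_type, Finset.sum_comm]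
  exact Finset.sum_congr rfl fun i _ => Finset.sum_congr rfl fun j _ => congrArg (· • _) (mul_comm _ _)

/-- Bilinear maps on sections give morphisms out of the tensor product. -/
theorem exists_hom2 (t : ∀ V : X.Opens, Γ(A, V) →ₗ[Γ(X, V)] Γ(B, V) →ₗ[Γ(X, V)] Γ(P, V))
    (hres : ∀ (V W : X.Opens) (h : V ≤ W) a b, res P h (t W a b) = t V (res A h a) (res B h b)) :
    ∃ φ : tens A B ⟶ P, ∀ (V : X.Opens) a b, φ.app V (shTm a b) = t V a b :=
  GrTildeLib.exists_tens_hom (fun V a b => t V a b) (fun V a a' b => by simp) (fun V a b b' => by simp)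
    (fun V r a b => by simp) (fun V r a b => by simp) hres

theorem hom2_ext {φ ψ : tens A B ⟶ P}
    (h : ∀ (V : X.Opens) (a : Γ(A, V)) (b : Γ(B, V)), φ.app V (shTm a b) = ψ.app V (shTm a b)) : φ = ψ :=
  KFlatLib.tens_hom_ext h

/-- A frame of a tensor product. -/
theorem isFrame_tens {U : X.Opens} {n k : ℕ} {a : Fin n → Γ(A, U)} {b : Fin k → Γ(B, U)} (ha : IsFrame A a)
    (hb : IsFrame B b) :
    IsFrame (tens A B) fun t => shTm (a (finProdFinEquiv.symm t).1) (b (finProdFinEquiv.symm t).2) := by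
  classical
  intro z hz
  let bb := (((ha.basis z hz).tensorProduct (hb.basis z hz)).map
    (LinearEquiv.ofBijective _ (KFlatLib.stalkTensorLin_bijective (M := A) (N := B) (x := z)))).reindex
      finProdFinEquiv
  refine (congrArg Function.Bijective (funext fun c => ?_)).mpr bb.equivFun.symm.bijective
  rw [Fintype.linearCombination_apply, Module.Basis.equivFun_symm_apply]
  refine Finset.sum_congr rfl fun t _ => ?_
  rw [Module.Basis.reindex_apply, Module.Basis.map_apply, Module.Basis.tensorProduct_apply',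
    LinearEquiv.ofBijective_apply, IsFrame.basis_apply, IsFrame.basis_apply]
  exact congrArg (c t • ·) (KFlatLib.stalkTensorLin_germ A B z hz _ _).symm

/-- Pure tensors of sections span the triple product where there are frames. -/
theorem span3 {V : X.Opens} (hA : HasFrame A V) (hB : HasFrame B V) (z : Γ(tens (tens A B) C, V)) :
    ∃ (N : ℕ) (a : Fin N → Γ(A, V)) (b : Fin N → Γ(B, V)) (c : Fin N → Γ(C, V)),
      z = ∑ i, shTm (shTm (a i) (b i)) (c i) := by
  obtain ⟨n, a, ha⟩ := hA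
  obtain ⟨k, b, hb⟩ := hB
  obtain ⟨m, hm⟩ := (phi_bijective C (isFrame_tens ha hb) (le_refl V)).2 z
  refine ⟨n * k, fun t => a (finProdFinEquiv.symm t).1, fun t => b (finProdFinEquiv.symm t).2, m, hm.symm.trans ?_⟩
  exact Finset.sum_congr rfl fun t _ => by rw [res_rfl]

theorem hom3_ext (hA : FlatMod.IsFinLocFree A) (hB : FlatMod.IsFinLocFree B)
    {φ ψ : tens (tens A B) C ⟶ P}
    (h : ∀ (V : X.Opens) a b c, φ.app V (shTm (shTm a b) c) = ψ.app V (shTm (shTm a b) c)) : φ = ψ := by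
  refine FEtLefLib.hom_ext_basis (G := {V | HasFrame A V ∧ HasFrame B V}) (fun U x hx => ?_) fun V hV z => ?_
  · obtain ⟨V, hV, hxV, hVU⟩ := exists_hasFrame_near hA U x hx
    obtain ⟨W, hW, hxW, hWV⟩ := exists_hasFrame_near hB V x hxV
    exact ⟨W, ⟨hV.mono hWV, hW⟩, hxW, hWV.trans hVU⟩
  · obtain ⟨N, a, b, c, rfl⟩ := span3 hV.1 hV.2 z
    rw [map_sum, map_sum]
    exact Finset.sum_congr rfl fun i _ => h V _ _ _

/-- Trilinear maps on sections give morphisms out of the triple tensor product. -/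
theorem exists_hom3 (hA : FlatMod.IsFinLocFree A) (hB : FlatMod.IsFinLocFree B)
    (t : ∀ V : X.Opens, Γ(A, V) →ₗ[Γ(X, V)] Γ(B, V) →ₗ[Γ(X, V)] Γ(C, V) →ₗ[Γ(X, V)] Γ(P, V))
    (hres : ∀ (V W : X.Opens) (h : V ≤ W) a b c,
      res P h (t W a b c) = t V (res A h a) (res B h b) (res C h c)) :
    ∃ φ : tens (tens A B) C ⟶ P, ∀ (V : X.Opens) a b c, φ.app V (shTm (shTm a b) c) = t V a b c := by
  classical
  have key : ∀ V : X.Opens, HasFrame A V ∧ HasFrame B V →
      ∃ l : Γ(tens (tens A B) C, V) →ₗ[Γ(X, V)] Γ(P, V), ∀ a b c, l (shTm (shTm a b) c) = t V a b c := by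
    rintro V ⟨⟨n, a, ha⟩, k, b, hb⟩
    let Φ : (Fin (n * k) → Γ(C, V)) →ₗ[Γ(X, V)] Γ(tens (tens A B) C, V) :=
      ∑ s, (tmul3 V (a (finProdFinEquiv.symm s).1) (b (finProdFinEquiv.symm s).2)).comp (LinearMap.proj s)
    have hΦ : Function.Bijective Φ := by
      refine (congrArg Function.Bijective (funext fun m => ?_)).mpr
        (phi_bijective C (isFrame_tens ha hb) (le_refl V))
      simp only [Φ, phi, LinearMap.sum_apply, LinearMap.comp_apply, LinearMap.proj_apply, tmul3_apply, res_rfl]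
    let T : (Fin (n * k) → Γ(C, V)) →ₗ[Γ(X, V)] Γ(P, V) :=
      ∑ s, (t V (a (finProdFinEquiv.symm s).1) (b (finProdFinEquiv.symm s).2)).comp (LinearMap.proj s)
    refine ⟨T.comp (LinearEquiv.ofBijective Φ hΦ).symm.toLinearMap, fun x y w => ?_⟩
    let m : Fin (n * k) → Γ(C, V) := fun s =>
      ((bas ha).repr x (finProdFinEquiv.symm s).1 * (bas hb).repr y (finProdFinEquiv.symm s).2) • w
    have hs : shTm (shTm x y) w = Φ m := by
      simp only [Φ, LinearMap.sum_apply, LinearMap.comp_apply, LinearMap.proj_apply]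
      exact expand3 a b _ _ (sum_bas ha x) (sum_bas hb y) w (tmul3 V)
    rw [LinearMap.comp_apply, hs]
    refine (congrArg T ((LinearEquiv.ofBijective Φ hΦ).symm_apply_apply m)).trans ?_
    simp only [T, LinearMap.sum_apply, LinearMap.comp_apply, LinearMap.proj_apply]
    exact (expand3 a b _ _ (sum_bas ha x) (sum_bas hb y) w (t V)).symm
  choose l hl using key
  obtain ⟨φ, hφ⟩ := FEtLefLib.exists_hom_of_basis (E := tens (tens A B) C) (M := P)
    (G := {V | HasFrame A V ∧ HasFrame B V})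
    (fun U x hx => by
      obtain ⟨V, hV, hxV, hVU⟩ := exists_hasFrame_near hA U x hx
      obtain ⟨W, hW, hxW, hWV⟩ := exists_hasFrame_near hB V x hxV
      exact ⟨W, ⟨hV.mono hWV, hW⟩, hxW, hWV.trans hVU⟩)
    (fun V hV => l V hV) fun V hV W hW x hxV hxW => by
      have k : ∀ {U : X.Opens} (hU : HasFrame A U ∧ HasFrame B U) (e : V ⊓ W ≤ U) z,
          res P e (l U hU z) = l (V ⊓ W) ⟨hV.1.mono inf_le_left, hV.2.mono inf_le_left⟩
            (res (tens (tens A B) C) e z) := fun {U} hU e z => by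
        obtain ⟨N, a, b, c, rfl⟩ := span3 hU.1 hU.2 z
        rw [map_sum, res_sum, res_sum, map_sum]
        refine Finset.sum_congr rfl fun i _ => ?_
        rw [hl, hres, shTm_res, shTm_res, hl]
      exact ⟨V ⊓ W, ⟨hV.1.mono inf_le_left, hV.2.mono inf_le_left⟩, inf_le_left, inf_le_right, ⟨hxV, hxW⟩,
        fun z => k hV inf_le_left z, fun z => k hW inf_le_right z⟩
  refine ⟨φ, fun V a b c => ?_⟩
  refine FEtLefLib.eq_of_near P fun x hx => ?_
  obtain ⟨T, hT, hxT, hTV⟩ := exists_hasFrame_near hA V x hx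
  obtain ⟨W, hW, hxW, hWT⟩ := exists_hasFrame_near hB T x hxT
  refine ⟨W, hWT.trans hTV, hxW, ?_⟩
  refine ((congr($((Scheme.Modules.Hom.mapPresheaf φ).naturality (homOfLE (hWT.trans hTV)).op)
    (shTm (shTm a b) c))).symm.trans ?_)
  refine (congrArg (φ.app W) ((shTm_res _ _ _).trans (congrArg (shTm · _) (shTm_res _ _ _)))).trans ?_
  exact (hφ W ⟨hT.mono hWT, hW⟩ _).trans ((hl W _ _ _ _).trans (hres W V (hWT.trans hTV) a b c).symm)

end Tensor

end LeffEt

end
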