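import Groth.Agent.LeffEtLib.Ext
import Groth.Agent.PurityGlueLib.HtpDepth
import Groth.Agent.S2947

/-!
# Restriction of finite étale covers to the closed subscheme, with purity off the neighbourhoods
-/

set_option autoImplicit false
set_option linter.style.haveILetI false
set_option maxHeartbeats 400000

universe u

open CategoryTheory CategoryTheory.Limits AlgebraicGeometry TopologicalSpace Opposite

noncomputable section

namespace LeffEt

variable {X : Scheme.{u}} {𝓘 : X.IdealSheafData}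

/-- Composition of restrictions. -/
def restrictComp {A B C : Scheme.{u}} (f : A ⟶ B) (g : B ⟶ C) (k : A ⟶ C) (h : k = f ≫ g) :
    FEt.restrict k ≅ FEt.restrict g ⋙ FEt.restrict f :=
  MorphismProperty.Over.pullbackComp f g k h

/-- Purity at the points off an open. -/
theorem isEquivalence_open [IsLocallyNoetherian X] (U : X.Opens)
    (hpur : ∀ x : X, x ∉ U →
      (IsRegularLocalRing (X.presheaf.stalk x) ∧ (2 : WithBot ℕ∞) ≤ ringKrullDim (X.presheaf.stalk x)) ∨
      (SGA2.IsAbsCompleteIntersection (X.presheaf.stalk x) ∧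
        (3 : WithBot ℕ∞) ≤ ringKrullDim (X.presheaf.stalk x))) : (FEt.restrict U.ι).IsEquivalence := by
  refine PurityGlueLib.isEquivalence_of_purity U (fun x hx => ?_) fun x hx => ?_
  · rcases hpur x hx with ⟨hr, hd⟩ | ⟨hc, hd⟩
    · haveI := hr
      exact PurityGlueLib.two_le_depth_of_isCM (CommAlgDim.isCM_of_isRegularLocalRing _) hd
    · exact PurityGlueLib.two_le_depth_of_isCM (PurityGlueLib.of_isAbsCompleteIntersection hc).2
        (le_trans (by norm_cast) hd)
  · rcases hpur x hx with ⟨hr, hd⟩ | ⟨hc, hd⟩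
    · haveI := hr
      exact Groth.Agent.S0247.result _ hd
    · exact Groth.Agent.S0272.result _ (PurityGlueLib.of_isAbsCompleteIntersection hc).1 hd

theorem isEquivalence_of_pure [IsLocallyNoetherian X] (h : LefX.LeffCond X 𝓘)
    (hpur : ∀ U : X.Opens, (𝓘.support : Set X) ⊆ (U : Set X) → ∀ x : X, x ∉ U →
      (IsRegularLocalRing (X.presheaf.stalk x) ∧ (2 : WithBot ℕ∞) ≤ ringKrullDim (X.presheaf.stalk x)) ∨
      (SGA2.IsAbsCompleteIntersection (X.presheaf.stalk x) ∧
        (3 : WithBot ℕ∞) ≤ ringKrullDim (X.presheaf.stalk x))) :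
    (FEt.restrict 𝓘.subschemeι).IsEquivalence := by
  have hrange : ∀ {U : X.Opens}, (𝓘.support : Set X) ⊆ (U : Set X) →
      Set.range 𝓘.subschemeι ⊆ Set.range U.ι := fun {U} hU => by
    rw [Scheme.IdealSheafData.range_subschemeι, Scheme.Opens.range_ι]
    exact hU
  have htop : (𝓘.support : Set X) ⊆ ((⊤ : X.Opens) : Set X) := fun _ _ => trivial
  let i := IsOpenImmersion.lift (⊤ : X.Opens).ι 𝓘.subschemeι (hrange htop)
  have hi : i ≫ (⊤ : X.Opens).ι = 𝓘.subschemeι := IsOpenImmersion.lift_fac _ _ _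
  have hsq := isPullback_lift (⊤ : X.Opens).ι i hi
  haveI : IsClosedImmersion i := MorphismProperty.of_isPullback hsq.flip inferInstance
  have hk : i.ker = 𝓘.comap (⊤ : X.Opens).ι := by
    rw [← hsq.isoPullback_hom_fst, Scheme.Hom.ker_comp_of_isIso, Scheme.IdealSheafData.ker_fst_of_isClosedImmersion,
      Scheme.IdealSheafData.ker_subschemeι]
  have hk' : (𝓘.comap (⊤ : X.Opens).ι).subschemeι.ker = i.ker := by rw [Scheme.IdealSheafData.ker_subschemeι, hk]
  let w := IsClosedImmersion.lift (𝓘.comap (⊤ : X.Opens).ι).subschemeι i hk'.le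
  haveI : IsIso w := IsClosedImmersion.isIso_lift _ _ hk'
  have hw : w ≫ (𝓘.comap (⊤ : X.Opens).ι).subschemeι = i := IsClosedImmersion.lift_fac _ _ _
  haveI := isEquivalence_open (⊤ : X.Opens) fun x hx => absurd trivial hx
  haveI : (FEt.restrict w).IsEquivalence := Groth.Agent.S0238.result w
  obtain ⟨hfull, hfaith⟩ := Groth.Agent.S2947.result X 𝓘 h.1 ⊤ htop
  let e : FEt.restrict (⊤ : X.Opens).ι ⋙ FEt.restrict (𝓘.comap (⊤ : X.Opens).ι).subschemeι ⋙ FEt.restrict w ≅
      FEt.restrict 𝓘.subschemeι :=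
    Functor.isoWhiskerLeft _ (restrictComp w _ i hw.symm).symm ≪≫ (restrictComp i _ _ hi.symm).symm
  haveI := hfull
  haveI := hfaith
  haveI : (FEt.restrict 𝓘.subschemeι).Full := Functor.Full.of_iso e
  haveI : (FEt.restrict 𝓘.subschemeι).Faithful := Functor.Faithful.of_iso e
  haveI : (FEt.restrict 𝓘.subschemeι).EssSurj := ⟨fun R => by
    obtain ⟨U, R', hY, hR'⟩ := exists_nhd_extension h R
    let i' := IsOpenImmersion.lift U.ι 𝓘.subschemeι (hrange hY)
    have hi' : i' ≫ U.ι = 𝓘.subschemeι := IsOpenImmersion.lift_fac _ _ _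
    obtain ⟨eR⟩ := hR' i' hi'
    haveI := isEquivalence_open U (hpur U hY)
    exact ⟨(FEt.restrict U.ι).objPreimage R', ⟨(restrictComp i' U.ι _ hi'.symm).app _ ≪≫
      (FEt.restrict i').mapIso ((FEt.restrict U.ι).objObjPreimageIso R') ≪≫ eR⟩⟩⟩
  exact { }

end LeffEt

end
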