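import Groth.Agent.LeffEtLib.Frames
import Groth.Agent.FEtLefLib.Main

/-!
# Formal algebras on a finite locally free module, and their traces
-/

set_option autoImplicit false
set_option linter.style.haveILetI false
set_option linter.unusedSectionVars false

universe u

open CategoryTheory CategoryTheory.Limits AlgebraicGeometry TopologicalSpace Opposite
open ProjFormLib (res IsFrame exists_frame)

noncomputable section

namespace LeffEt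

variable {X : Scheme.{u}} {𝓙 : X.IdealSheafData} {E : X.Modules}

/-- The restriction of functions. -/
abbrev rr {Z : Scheme.{u}} {U V : Z.Opens} (h : V ≤ U) : Γ(Z, U) →+* Γ(Z, V) :=
  (Z.presheaf.map (homOfLE h).op).hom

/-- A formal algebra structure on the completion of a module. -/
structure Pre (𝓙 : X.IdealSheafData) (E : X.Modules) where
  R : ℕ → Scheme.{u}
  g : ∀ n, R n ⟶ X
  t : ∀ n, R n ⟶ R (n + 1)
  ht : ∀ n, t n ≫ g (n + 1) = g n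
  κ : ∀ n (V : X.Opens), Γ(E, V) →+ Γ(R n, g n ⁻¹ᵁ V)
  κ_smul : ∀ n (V : X.Opens) (r : Γ(X, V)) (x : Γ(E, V)), κ n V (r • x) = (g n).app V r * κ n V x
  κ_res : ∀ n {V W : X.Opens} (h : W ≤ V) (x : Γ(E, V)),
    rr ((g n).preimage_mono h) (κ n V x) = κ n W (res E h x)
  κ_t : ∀ n (V : X.Opens) (x : Γ(E, V)),
    ((t n).appLE (g (n + 1) ⁻¹ᵁ V) (g n ⁻¹ᵁ V) (congrArg (fun f : R n ⟶ X => f ⁻¹ᵁ V) (ht n)).ge).hom
      (κ (n + 1) V x) = κ n V x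
  κ_surj : ∀ n {V : X.Opens}, Framed E V → Function.Surjective (κ n V)
  κ_ker : ∀ n {V : X.Opens} (hV : IsAffineOpen V) {r : ℕ} {b : Fin r → Γ(E, V)}, IsFrame E b →
    ∀ c : Fin r → Γ(X, V), κ n V (∑ i, c i • b i) = 0 ↔ ∀ i, c i ∈ (𝓙 ^ (n + 1)).ideal ⟨V, hV⟩
  etale0 : ∀ {V : X.Opens} (h : Framed E V) (hI : ∀ a ∈ (𝓙 ^ (0 + 1)).ideal ⟨V, h.1⟩, ((g 0).app V).hom a = 0),
    (Ideal.Quotient.lift _ ((g 0).app V).hom hI).Etale

namespace Pre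

variable (F : Pre 𝓙 E)

theorem κ_sum (n : ℕ) {V : X.Opens} {r : ℕ} (b : Fin r → Γ(E, V)) (c : Fin r → Γ(X, V)) :
    F.κ n V (∑ i, c i • b i) = ∑ i, (F.g n).app V (c i) * F.κ n V (b i) := by
  rw [map_sum]
  exact Finset.sum_congr rfl fun i _ => F.κ_smul n V _ _

theorem app_mem (n : ℕ) {V : X.Opens} (hV : Framed E V) {a : Γ(X, V)}
    (ha : a ∈ (𝓙 ^ (n + 1)).ideal ⟨V, hV.1⟩) : (F.g n).app V a = 0 := by
  obtain ⟨r, b, hb⟩ := hV.2
  obtain ⟨x, hx⟩ := F.κ_surj n hV 1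
  have h : F.κ n V (a • x) = 0 := by
    rw [← sum_bas hb (a • x)]
    refine (F.κ_ker n hV.1 hb _).2 fun i => ?_
    rw [map_smul]
    exact Ideal.mul_mem_right _ _ ha
  rwa [F.κ_smul, hx, mul_one] at h

end Pre

/-- A formal algebra structure on the completion of a finite locally free module. -/
structure FAlg (𝓙 : X.IdealSheafData) (E : X.Modules) extends Pre 𝓙 E where
  hE : FlatMod.IsFinLocFree E

namespace FAlg

variable (F : FAlg 𝓙 E)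

/-- The reduction of functions to the previous level. -/
abbrev tres (n : ℕ) (V : X.Opens) : Γ(F.R (n + 1), F.g (n + 1) ⁻¹ᵁ V) →+* Γ(F.R n, F.g n ⁻¹ᵁ V) :=
  ((F.t n).appLE (F.g (n + 1) ⁻¹ᵁ V) (F.g n ⁻¹ᵁ V)
    (congrArg (fun f : F.R n ⟶ X => f ⁻¹ᵁ V) (F.ht n)).ge).hom

theorem tres_app (n : ℕ) (V : X.Opens) (r : Γ(X, V)) :
    F.tres n V ((F.g (n + 1)).app V r) = (F.g n).app V r := by
  have e : ∀ {q : F.R n ⟶ X} (hq : F.t n ≫ F.g (n + 1) = q) (h : q ⁻¹ᵁ V ≤ (F.t n) ⁻¹ᵁ (F.g (n + 1) ⁻¹ᵁ V)),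
      (F.g (n + 1)).app V ≫ (F.t n).appLE (F.g (n + 1) ⁻¹ᵁ V) (q ⁻¹ᵁ V) h = q.app V := by
    rintro q rfl h
    rw [Scheme.Hom.comp_app, Scheme.Hom.appLE]
    simp
  exact congr($(e (F.ht n) (congrArg (fun f : F.R n ⟶ X => f ⁻¹ᵁ V) (F.ht n)).ge) r)

theorem g_rr (n : ℕ) {V W : X.Opens} (h : W ≤ V) (r : Γ(X, V)) :
    rr ((F.g n).preimage_mono h) ((F.g n).app V r) = (F.g n).app W (rr h r) :=
  (congr($((F.g n).naturality (homOfLE h).op) r)).symm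

/-- A matrix lifting the multiplication by a function on a level. -/
def IsLiftMat (n : ℕ) {V : X.Opens} {r : ℕ} (b : Fin r → Γ(E, V)) (z : Γ(F.R n, F.g n ⁻¹ᵁ V))
    (C : Fin r → Fin r → Γ(X, V)) : Prop :=
  ∀ i, F.κ n V (∑ j, C i j • b j) = z * F.κ n V (b i)

/-- The trace of the multiplication by a function of a level, modulo the ideal of the level. -/
def IsTr (n : ℕ) {V : X.Opens} (hV : IsAffineOpen V) (z : Γ(F.R n, F.g n ⁻¹ᵁ V)) (s : Γ(X, V)) : Prop :=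
  ∀ (r : ℕ) (b : Fin r → Γ(E, V)), IsFrame E b → ∀ C, F.IsLiftMat n b z C →
    s - ∑ i, C i i ∈ (𝓙 ^ (n + 1)).ideal ⟨V, hV⟩

theorem exists_lift (n : ℕ) {V : X.Opens} (hV : Framed E V) {r : ℕ} {b : Fin r → Γ(E, V)} (hb : IsFrame E b)
    (z : Γ(F.R n, F.g n ⁻¹ᵁ V)) : ∃ C, F.IsLiftMat n b z C := by
  choose x hx using fun i => F.κ_surj n hV (z * F.κ n V (b i))
  exact ⟨fun i j => (bas hb).repr (x i) j, fun i => (congrArg (F.κ n V) (sum_bas hb (x i))).trans (hx i)⟩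

/-- The endomorphism of a matrix. -/
def matEnd {V : X.Opens} {r : ℕ} {b : Fin r → Γ(E, V)} (hb : IsFrame E b) (C : Fin r → Fin r → Γ(X, V)) :
    Γ(E, V) →ₗ[Γ(X, V)] Γ(E, V) :=
  (bas hb).constr Γ(X, V) fun i => ∑ j, C i j • b j

theorem matEnd_apply {V : X.Opens} {r : ℕ} {b : Fin r → Γ(E, V)} (hb : IsFrame E b)
    (C : Fin r → Fin r → Γ(X, V)) (i : Fin r) : matEnd hb C (b i) = ∑ j, C i j • b j := by
  rw [← bas_apply hb i]
  exact (bas hb).constr_basis _ _ i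

theorem trace_matEnd {V : X.Opens} {r : ℕ} {b : Fin r → Γ(E, V)} (hb : IsFrame E b)
    (C : Fin r → Fin r → Γ(X, V)) : LinearMap.trace Γ(X, V) Γ(E, V) (matEnd hb C) = ∑ i, C i i := by
  classical
  rw [LinearMap.trace_eq_matrix_trace _ (bas hb), Matrix.trace]
  refine Finset.sum_congr rfl fun i _ => ?_
  rw [Matrix.diag_apply, LinearMap.toMatrix_apply, bas_apply, matEnd_apply]
  have : ∀ j, b j = bas hb j := fun j => (bas_apply hb j).symm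
  simp only [this, (bas hb).repr_sum_self]

theorem κ_matEnd (n : ℕ) {V : X.Opens} {r : ℕ} {b : Fin r → Γ(E, V)} (hb : IsFrame E b)
    {C : Fin r → Fin r → Γ(X, V)} {z : Γ(F.R n, F.g n ⁻¹ᵁ V)} (hC : F.IsLiftMat n b z C) (x : Γ(E, V)) :
    F.κ n V (matEnd hb C x) = z * F.κ n V x := by
  conv_lhs => rw [← sum_bas hb x]
  conv_rhs => rw [← sum_bas hb x]
  rw [map_sum (matEnd hb C), F.κ_sum, Finset.mul_sum, map_sum]
  refine Finset.sum_congr rfl fun i _ => ?_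
  rw [map_smul, matEnd_apply, F.κ_smul, hC i, mul_left_comm]

theorem trace_sub_mem (n : ℕ) {V : X.Opens} (hV : IsAffineOpen V) {r r' : ℕ} {b : Fin r → Γ(E, V)}
    {b' : Fin r' → Γ(E, V)} (hb : IsFrame E b) (hb' : IsFrame E b') {C : Fin r → Fin r → Γ(X, V)}
    {C' : Fin r' → Fin r' → Γ(X, V)} {z : Γ(F.R n, F.g n ⁻¹ᵁ V)} (hC : F.IsLiftMat n b z C)
    (hC' : F.IsLiftMat n b' z C') : ∑ i, C i i - ∑ i, C' i i ∈ (𝓙 ^ (n + 1)).ideal ⟨V, hV⟩ := by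
  classical
  rw [← trace_matEnd hb C, ← trace_matEnd hb' C', ← map_sub, LinearMap.trace_eq_matrix_trace _ (bas hb),
    Matrix.trace]
  refine Ideal.sum_mem _ fun i _ => ?_
  rw [Matrix.diag_apply, LinearMap.toMatrix_apply]
  refine (F.κ_ker n hV hb _).1 ?_ i
  rw [sum_bas, LinearMap.sub_apply, map_sub, F.κ_matEnd n hb hC, F.κ_matEnd n hb' hC', sub_self]

theorem isTr_of_lift (n : ℕ) {V : X.Opens} (hV : IsAffineOpen V) {r : ℕ} {b : Fin r → Γ(E, V)} (hb : IsFrame E b)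
    {C : Fin r → Fin r → Γ(X, V)} {z : Γ(F.R n, F.g n ⁻¹ᵁ V)} (hC : F.IsLiftMat n b z C) :
    F.IsTr n hV z (∑ i, C i i) :=
  fun _ _ hb' _ hC' => F.trace_sub_mem n hV hb hb' hC hC'

theorem exists_isTr (n : ℕ) {V : X.Opens} (hV : Framed E V) (z : Γ(F.R n, F.g n ⁻¹ᵁ V)) :
    ∃ s, F.IsTr n hV.1 z s := by
  obtain ⟨r, b, hb⟩ := hV.2
  obtain ⟨C, hC⟩ := F.exists_lift n hV hb z
  exact ⟨_, F.isTr_of_lift n hV.1 hb hC⟩

theorem isTr_congr (n : ℕ) {V : X.Opens} {hV : IsAffineOpen V} {z : Γ(F.R n, F.g n ⁻¹ᵁ V)} {s s' : Γ(X, V)}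
    (h : F.IsTr n hV z s) (hs : s' - s ∈ (𝓙 ^ (n + 1)).ideal ⟨V, hV⟩) : F.IsTr n hV z s' :=
  fun r b hb C hC => by
    have := Ideal.add_mem _ hs (h r b hb C hC)
    rwa [sub_add_sub_cancel] at this

theorem sub_mem_of_isTr (n : ℕ) {V : X.Opens} (hV : Framed E V) {z : Γ(F.R n, F.g n ⁻¹ᵁ V)} {s s' : Γ(X, V)}
    (h : F.IsTr n hV.1 z s) (h' : F.IsTr n hV.1 z s') : s - s' ∈ (𝓙 ^ (n + 1)).ideal ⟨V, hV.1⟩ := by
  obtain ⟨r, b, hb⟩ := hV.2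
  obtain ⟨C, hC⟩ := F.exists_lift n hV hb z
  have := Ideal.sub_mem _ (h r b hb C hC) (h' r b hb C hC)
  rwa [sub_sub_sub_cancel_right] at this

theorem isTr_add (n : ℕ) {V : X.Opens} (hV : Framed E V) {z z' : Γ(F.R n, F.g n ⁻¹ᵁ V)} {s s' : Γ(X, V)}
    (h : F.IsTr n hV.1 z s) (h' : F.IsTr n hV.1 z' s') : F.IsTr n hV.1 (z + z') (s + s') := by
  obtain ⟨r, b, hb⟩ := hV.2
  obtain ⟨C, hC⟩ := F.exists_lift n hV hb z
  obtain ⟨C', hC'⟩ := F.exists_lift n hV hb z'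
  have hS : F.IsLiftMat n b (z + z') fun i j => C i j + C' i j := fun i => by
    simp only [add_smul, Finset.sum_add_distrib, map_add, hC i, hC' i, add_mul]
  refine F.isTr_congr n (F.isTr_of_lift n hV.1 hb hS) ?_
  have := Ideal.add_mem _ (h r b hb C hC) (h' r b hb C' hC')
  simpa only [Finset.sum_add_distrib, sub_add_sub_comm] using this

theorem isTr_smul (n : ℕ) {V : X.Opens} (hV : Framed E V) (a : Γ(X, V)) {z : Γ(F.R n, F.g n ⁻¹ᵁ V)}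
    {s : Γ(X, V)} (h : F.IsTr n hV.1 z s) : F.IsTr n hV.1 ((F.g n).app V a * z) (a * s) := by
  obtain ⟨r, b, hb⟩ := hV.2
  obtain ⟨C, hC⟩ := F.exists_lift n hV hb z
  have hS : F.IsLiftMat n b ((F.g n).app V a * z) fun i j => a * C i j := fun i => by
    simp only [mul_smul, ← Finset.smul_sum]
    rw [F.κ_smul, hC i, mul_assoc]
  refine F.isTr_congr n (F.isTr_of_lift n hV.1 hb hS) ?_
  have := Ideal.mul_mem_left _ a (h r b hb C hC)
  simpa only [mul_sub, Finset.mul_sum] using this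

theorem isTr_zero (n : ℕ) {V : X.Opens} (hV : Framed E V) : F.IsTr n hV.1 0 0 := fun r b hb C hC => by
  have hS : F.IsLiftMat n b (0 : Γ(F.R n, F.g n ⁻¹ᵁ V)) fun _ _ => 0 := fun i => by simp
  have := F.trace_sub_mem n hV.1 hb hb hS hC
  simpa using this

theorem ideal_le_of_le {I J : X.IdealSheafData} (h : I ≤ J) (V : X.affineOpens) : I.ideal V ≤ J.ideal V := h V

theorem rr_mem {K : X.IdealSheafData} {V W : X.Opens} (hV : IsAffineOpen V) (hW : IsAffineOpen W) (h : W ≤ V)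
    {a : Γ(X, V)} (ha : a ∈ K.ideal ⟨V, hV⟩) : rr h a ∈ K.ideal ⟨W, hW⟩ := by
  rw [← K.map_ideal (U := ⟨W, hW⟩) (V := ⟨V, hV⟩) h]
  exact Ideal.mem_map_of_mem _ ha

theorem isTr_res (n : ℕ) {V W : X.Opens} (hV : Framed E V) (hW : IsAffineOpen W) (h : W ≤ V)
    {z : Γ(F.R n, F.g n ⁻¹ᵁ V)} {s : Γ(X, V)} (hs : F.IsTr n hV.1 z s) :
    F.IsTr n hW (rr ((F.g n).preimage_mono h) z) (rr h s) := by
  obtain ⟨r, b, hb⟩ := hV.2
  obtain ⟨C, hC⟩ := F.exists_lift n hV hb z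
  have hS : F.IsLiftMat n (fun i => res E h (b i)) (rr ((F.g n).preimage_mono h) z)
      fun i j => rr h (C i j) := fun i => by
    rw [← res_eq_sum, ← F.κ_res, hC i, map_mul, F.κ_res]
  refine F.isTr_congr n (F.isTr_of_lift n hW (hb.res h) hS) ?_
  rw [← map_sum, ← map_sub]
  exact rr_mem hV.1 hW h (hs r b hb C hC)

theorem isTr_step (n : ℕ) {V : X.Opens} (hV : Framed E V) {z : Γ(F.R (n + 1), F.g (n + 1) ⁻¹ᵁ V)}
    {s : Γ(X, V)} (hs : F.IsTr (n + 1) hV.1 z s) : F.IsTr n hV.1 (F.tres n V z) s := by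
  obtain ⟨r, b, hb⟩ := hV.2
  obtain ⟨C, hC⟩ := F.exists_lift (n + 1) hV hb z
  have hS : F.IsLiftMat n b (F.tres n V z) C := fun i => by
    rw [← F.κ_t, hC i, map_mul, F.κ_t]
  refine F.isTr_congr n (F.isTr_of_lift n hV.1 hb hS) ?_
  exact ideal_le_of_le (Lef.pow_succ_le 𝓙 n) _ (hs r b hb C hC)

/-! ### The trace as a morphism -/

/-- The direct image of the functions of a level. -/
abbrev lev (n : ℕ) : X.Modules := (Scheme.Modules.pushforward (F.g n)).obj (Coh.structureModule (F.R n))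

theorem exists_trHom (n : ℕ) :
    ∃ T : F.lev n ⟶ ClSub.quotMod (𝓙 ^ (n + 1)), ∀ {V : X.Opens} (hV : Framed E V)
      (z : Γ(F.R n, F.g n ⁻¹ᵁ V)) (s : Γ(X, V)),
      T.app V (show Γ(F.lev n, V) from z) = FEtLefLib.red (𝓙 ^ (n + 1)) V s ↔ F.IsTr n hV.1 z s := by
  choose s₀ hs₀ using fun (V : {V : X.Opens // Framed E V}) (z : Γ(F.R n, F.g n ⁻¹ᵁ V.1)) =>
    F.exists_isTr n V.2 z
  have huniq : ∀ {V : X.Opens} (hV : Framed E V) {z : Γ(F.R n, F.g n ⁻¹ᵁ V)} {s s' : Γ(X, V)},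
      F.IsTr n hV.1 z s → F.IsTr n hV.1 z s' →
      FEtLefLib.red (𝓙 ^ (n + 1)) V s = FEtLefLib.red (𝓙 ^ (n + 1)) V s' := by
    intro V hV z s s' h h'
    exact (FEtLefLib.red_eq_iff _ hV.1 _ _).2 (F.sub_mem_of_isTr n hV h h')
  let lam : ∀ V ∈ {V | Framed E V}, Γ(F.lev n, V) →ₗ[Γ(X, V)] Γ(ClSub.quotMod (𝓙 ^ (n + 1)), V) :=
    fun V hV =>
      { toFun := fun z => FEtLefLib.red (𝓙 ^ (n + 1)) V (s₀ ⟨V, hV⟩ z)
        map_add' := fun z z' => (huniq hV (hs₀ ⟨V, hV⟩ _) (F.isTr_add n hV (hs₀ ⟨V, hV⟩ z) (hs₀ ⟨V, hV⟩ z'))).trans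
          (map_add ((ClSub.toSubscheme (𝓙 ^ (n + 1))).app V).hom _ _)
        map_smul' := fun a z => (huniq hV (hs₀ ⟨V, hV⟩ _) (F.isTr_smul n hV a (hs₀ ⟨V, hV⟩ z))).trans
          ((ClSub.toSubscheme (𝓙 ^ (n + 1))).app_smul a (show Γ(Coh.structureModule X, V) from s₀ ⟨V, hV⟩ z)) }
  obtain ⟨T, hT⟩ := FEtLefLib.exists_hom_of_basis (G := {V | Framed E V})
    (fun U x hx => exists_framed_near F.hE U x hx) lam fun V hV W hW x hxV hxW => by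
      obtain ⟨U, hU, hxU, hUVW⟩ := exists_framed_near F.hE (V ⊓ W) x ⟨hxV, hxW⟩
      refine ⟨U, hU, hUVW.trans inf_le_left, hUVW.trans inf_le_right, hxU, fun z => ?_, fun z => ?_⟩
      · exact (FEtLefLib.rm_red _ _ _).trans (huniq hU (F.isTr_res n hV hU.1 _ (hs₀ ⟨V, hV⟩ z)) (hs₀ ⟨U, hU⟩ _))
      · exact (FEtLefLib.rm_red _ _ _).trans (huniq hU (F.isTr_res n hW hU.1 _ (hs₀ ⟨W, hW⟩ z)) (hs₀ ⟨U, hU⟩ _))
  refine ⟨T, fun {V} hV z s => ?_⟩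
  rw [hT V hV]
  refine ⟨fun e => F.isTr_congr n (hs₀ ⟨V, hV⟩ z) ?_, fun h => huniq hV (hs₀ ⟨V, hV⟩ z) h⟩
  exact (FEtLefLib.red_eq_iff _ hV.1 _ _).1 e.symm

/-- The trace morphism of a level. -/
def T (n : ℕ) : F.lev n ⟶ ClSub.quotMod (𝓙 ^ (n + 1)) := (F.exists_trHom n).choose

theorem T_iff (n : ℕ) {V : X.Opens} (hV : Framed E V) (z : Γ(F.R n, F.g n ⁻¹ᵁ V)) (s : Γ(X, V)) :
    (F.T n).app V (show Γ(F.lev n, V) from z) = FEtLefLib.red (𝓙 ^ (n + 1)) V s ↔ F.IsTr n hV.1 z s :=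
  (F.exists_trHom n).choose_spec hV z s

end FAlg

end LeffEt

end
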