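import Groth.Agent.LeffEtLib.Mult
import Groth.Agent.S2733

/-!
# The discriminant of a formal étale algebra is a unit near the support
-/

set_option autoImplicit false
set_option linter.style.haveILetI false

universe u

open CategoryTheory CategoryTheory.Limits AlgebraicGeometry TopologicalSpace Opposite
open ProjFormLib (res IsFrame exists_frame)

noncomputable section

namespace LeffEt

/-- The discriminant of a free étale algebra, from lifts of its structure constants. -/
theorem isUnit_mk_det {A B : Type u} [CommRing A] [CommRing B] {r : ℕ} (I : Ideal A) (φ : A →+* B)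
    (hI : ∀ a ∈ I, φ a = 0) (het : (Ideal.Quotient.lift I φ hI).Etale) (κb : Fin r → B)
    (hsurj : ∀ z, ∃ c : Fin r → A, ∑ i, φ (c i) * κb i = z)
    (hker : ∀ c : Fin r → A, ∑ i, φ (c i) * κb i = 0 → ∀ i, c i ∈ I) (G : Fin r → Fin r → A)
    (hG : ∀ i j, ∃ C : Fin r → Fin r → A,
      (∀ k, ∑ l, φ (C k l) * κb l = κb i * κb j * κb k) ∧ G i j - ∑ k, C k k ∈ I) :
    IsUnit (Ideal.Quotient.mk I (Matrix.det G)) := by
  letI : Algebra (A ⧸ I) B := (Ideal.Quotient.lift I φ hI).toAlgebra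
  haveI : Algebra.Etale (A ⧸ I) B := RingHom.etale_algebraMap.1 het
  have hφ : ∀ a z, (Ideal.Quotient.mk I a) • z = φ a * z := fun a z =>
    (Algebra.smul_def _ z).trans (congrArg (· * z) (Ideal.Quotient.lift_mk I φ hI))
  have hbij : Function.Bijective (Fintype.linearCombination (A ⧸ I) κb) := by
    refine ⟨(injective_iff_map_eq_zero _).2 fun c hc => funext fun i => ?_, fun z => ?_⟩
    · choose a ha using fun i => Ideal.Quotient.mk_surjective (c i)
      rw [← ha i]
      refine Ideal.Quotient.eq_zero_iff_mem.2 (hker a (Eq.trans ?_ hc) i)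
      rw [Fintype.linearCombination_apply]
      exact Finset.sum_congr rfl fun k _ => by rw [← ha k, hφ]
    · obtain ⟨c, hc⟩ := hsurj z
      refine ⟨fun i => Ideal.Quotient.mk I (c i), Eq.trans ?_ hc⟩
      rw [Fintype.linearCombination_apply]
      exact Finset.sum_congr rfl fun k _ => hφ _ _
  let bs : Module.Basis (Fin r) (A ⧸ I) B := Module.Basis.ofEquivFun (LinearEquiv.ofBijective _ hbij).symm
  have hbs : ∀ i, bs i = κb i := fun i => by
    rw [Module.Basis.coe_ofEquivFun]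
    simp [Fintype.linearCombination_apply, Pi.single_apply]
  haveI : Module.Finite (A ⧸ I) B := Module.Finite.of_basis bs
  haveI : Module.Free (A ⧸ I) B := Module.Free.of_basis bs
  have hperf := (Groth.Agent.S2733.result (A ⧸ I) B).1 inferInstance
  have htr : ∀ i j, Algebra.trace (A ⧸ I) B (κb i * κb j) = Ideal.Quotient.mk I (G i j) := fun i j => by
    obtain ⟨C, hC, hCG⟩ := hG i j
    rw [Ideal.Quotient.eq.2 hCG, map_sum, Algebra.trace_eq_matrix_trace bs, Matrix.trace]
    refine Finset.sum_congr rfl fun k _ => ?_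
    rw [Matrix.diag_apply, Algebra.leftMulMatrix_eq_repr_mul, hbs, ← hC k]
    have hs : ∀ c : Fin r → A, ∑ l, φ (c l) * κb l = ∑ l, Ideal.Quotient.mk I (c l) • bs l := fun c =>
      Finset.sum_congr rfl fun l _ => by rw [hφ, hbs]
    rw [hs, bs.repr_sum_self]
  have hM : LinearMap.toMatrix bs bs.dualBasis (Algebra.traceForm (A ⧸ I) B) =
      (Ideal.Quotient.mk I).mapMatrix G := by
    refine Matrix.ext fun i j => ?_
    rw [LinearMap.toMatrix_apply, Module.Basis.dualBasis_repr, Algebra.traceForm_apply, hbs, hbs, htr,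
      RingHom.mapMatrix_apply, Matrix.map_apply]
    obtain ⟨C, hC, hC'⟩ := hG i j
    obtain ⟨D, hD, hD'⟩ := hG j i
    rw [← htr, ← htr, mul_comm]
  rw [RingHom.map_det, ← hM]
  exact LinearEquiv.isUnit_det (LinearEquiv.ofBijective _ hperf) bs bs.dualBasis

variable {X : Scheme.{u}} {𝓙 : X.IdealSheafData} {E : X.Modules}

namespace FAlg

variable (F : FAlg 𝓙 E) (Φ : F.Forms)

/-- The form is perfect near the support. -/
theorem exists_perfV {y : X} (hy : y ∈ 𝓙.support) : ∃ V, F.PerfV Φ V ∧ y ∈ V := by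
  obtain ⟨V, hV, hyV, -⟩ := exists_framed_near F.hE ⊤ y trivial
  obtain ⟨r, b, hb⟩ := id hV.2
  have hI : ∀ a ∈ (𝓙 ^ (0 + 1)).ideal ⟨V, hV.1⟩, ((F.g 0).app V).hom a = 0 := fun a ha => F.app_mem 0 hV ha
  have hu : IsUnit (Ideal.Quotient.mk ((𝓙 ^ (0 + 1)).ideal ⟨V, hV.1⟩) (F.gram Φ b).det) := by
    refine isUnit_mk_det _ ((F.g 0).app V).hom hI (F.etale0 hV hI) (fun i => F.κ 0 V (b i)) (fun z => ?_)
      (fun c hc i => (F.κ_ker 0 hV.1 hb c).1 ((F.κ_sum 0 b c).trans hc) i) _ fun i j => ?_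
    · obtain ⟨x, hx⟩ := F.κ_surj 0 hV z
      refine ⟨fun i => (bas hb).repr x i, ?_⟩
      rw [← hx]
      exact (F.κ_sum 0 b _).symm.trans (congrArg (F.κ 0 V) (sum_bas hb x))
    · obtain ⟨C, hC⟩ := F.exists_lift 0 hV hb (F.κ 0 V (b i) * F.κ 0 V (b j))
      exact ⟨C, fun k => (F.κ_sum 0 b _).symm.trans (hC k), Φ.β_spec 0 hV _ _ r b hb C hC⟩
  have hmem : y ∈ X.basicOpen (F.gram Φ b).det := by
    obtain ⟨u, hu'⟩ := Ideal.Quotient.mk_surjective (hu.unit⁻¹ : (Γ(X, V) ⧸ _)ˣ).1
    have h1 : (F.gram Φ b).det * u - 1 ∈ (𝓙 ^ (0 + 1)).ideal ⟨V, hV.1⟩ := by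
      rw [← Ideal.Quotient.eq, map_mul, map_one, hu']
      exact hu.mul_val_inv
    have hys : y ∈ (𝓙 ^ (0 + 1)).support := by rw [Scheme.IdealSheafData.support_pow_succ]; exact hy
    have h2 := (Scheme.mem_zeroLocus_iff X _ _).1
      ((Scheme.IdealSheafData.mem_support_iff_of_mem (U := ⟨V, hV.1⟩) hyV).1 hys) _ h1
    rw [X.mem_basicOpen _ y hyV] at h2 ⊢
    by_contra hn
    have h3 : X.presheaf.germ V y hyV ((F.gram Φ b).det * u) ∈ IsLocalRing.maximalIdeal (X.presheaf.stalk y) := by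
      rw [map_mul]
      exact Ideal.mul_mem_right _ _ hn
    have h4 := Ideal.sub_mem _ h3 (show X.presheaf.germ V y hyV ((F.gram Φ b).det * u - 1) ∈
      IsLocalRing.maximalIdeal (X.presheaf.stalk y) from h2)
    rw [map_sub, map_one, sub_sub_cancel] at h4
    exact (IsLocalRing.maximalIdeal.isMaximal _).ne_top ((Ideal.eq_top_iff_one _).2 h4)
  refine ⟨X.basicOpen (F.gram Φ b).det, ⟨hV.1.basicOpen _, r, _, hb.res (X.basicOpen_le _), ?_⟩, hmem⟩
  rw [gram_res, ← RingHom.map_det]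
  haveI := hV.1.isLocalization_basicOpen (F.gram Φ b).det
  exact IsLocalization.Away.algebraMap_isUnit (S := Γ(X, X.basicOpen (F.gram Φ b).det)) _

end FAlg

end LeffEt

end
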