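import Groth.Agent.LeffEtLib.Disc
import Groth.Agent.CohCmpLib.HomFrame

/-!
# Perfectness everywhere, from the bijectivity into the completion
-/

set_option autoImplicit false
set_option linter.style.haveILetI false
set_option linter.unusedSectionVars false

universe u

open CategoryTheory CategoryTheory.Limits AlgebraicGeometry TopologicalSpace Opposite
open ProjFormLib (ger res IsFrame section_ext exists_frame)
open KFlatLib (tens shTm)
open CohCmpLib (homMod evMod happ hVal curryMod)

noncomputable section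

namespace LeffEt

variable {X : Scheme.{u}}

/-- The dual of a module. -/
abbrev dual (E : X.Modules) : X.Modules := homMod E (Coh.structureModule X)

/-- The pairing with the dual. -/
def pair (E : X.Modules) (V : X.Opens) : Γ(dual E, V) →ₗ[Γ(X, V)] Γ(E, V) →ₗ[Γ(X, V)] Γ(X, V) :=
  LinearMap.mk₂ Γ(X, V) (fun h m => (show Γ(X, V) from (evMod E (Coh.structureModule X)).app V (shTm m h)))
    (fun h h' m => (congrArg ((evMod E _).app V) (shTm_add_right m h h')).trans
      (map_add ((evMod E _).app V).hom _ _))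
    (fun r h m => (congrArg ((evMod E _).app V) (shTm_smul_right r m h)).trans ((evMod E _).app_smul r _))
    (fun h m m' => (congrArg ((evMod E _).app V) (shTm_add_left m m' h)).trans
      (map_add ((evMod E _).app V).hom _ _))
    (fun r h m => (congrArg ((evMod E _).app V) (shTm_smul_left r m h)).trans ((evMod E _).app_smul r _))

theorem pair_apply {E : X.Modules} {V : X.Opens} (h : Γ(dual E, V)) (m : Γ(E, V)) :
    pair E V h m = happ h m :=
  CohCmpLib.evMod_app m h

theorem res_pair {E : X.Modules} {V W : X.Opens} (e : W ≤ V) (h : Γ(dual E, V)) (m : Γ(E, V)) :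
    rr e (pair E V h m) = pair E W (res (dual E) e h) (res E e m) :=
  (app_res (evMod E _) e (shTm m h)).trans (congrArg ((evMod E _).app W) (ProjFormLib.shTm_res e m h))

theorem dual_ext {E : X.Modules} {V : X.Opens} {r : ℕ} {b : Fin r → Γ(E, V)} (hb : IsFrame E b)
    {h h' : Γ(dual E, V)} (e : ∀ i, pair E V h (b i) = pair E V h' (b i)) : h = h' :=
  CohCmpLib.homMod_ext fun y hy => (hb.basis y hy).ext fun i => by
    rw [IsFrame.basis_apply, ← CohCmpLib.ger_happ, ← CohCmpLib.ger_happ, ← pair_apply, ← pair_apply, e i]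

theorem exists_dual_frame {E : X.Modules} {V : X.Opens} {r : ℕ} {b : Fin r → Γ(E, V)} (hb : IsFrame E b)
    (c : Fin r → Γ(X, V)) : ∃ h : Γ(dual E, V), ∀ i, pair E V h (b i) = c i := by
  obtain ⟨h, hh⟩ := CohCmpLib.exists_hom_of_frame (P := Coh.structureModule X) hb (le_refl V) c
  exact ⟨h, fun i => (pair_apply h (b i)).trans (section_ext _ _ fun y hy =>
    (CohCmpLib.ger_happ h (b i) y hy).trans (hh y hy i))⟩

variable {𝓙 : X.IdealSheafData} {E : X.Modules}

theorem preimage_eq_bot {R : Scheme.{u}} (g : R ⟶ X) {V : X.Opens} {S : Set X} (hS : Set.range g ⊆ S)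
    (hV : Disjoint (V : Set X) S) : g ⁻¹ᵁ V = ⊥ :=
  eq_bot_iff.2 fun x hx => (Set.disjoint_left.1 hV hx (hS ⟨x, rfl⟩)).elim

theorem subsingleton_of_disjoint {R : Scheme.{u}} (g : R ⟶ X) {V : X.Opens} {S : Set X} (hS : Set.range g ⊆ S)
    (hV : Disjoint (V : Set X) S) : Subsingleton Γ(R, g ⁻¹ᵁ V) := by
  rw [preimage_eq_bot g hS hV]
  infer_instance

theorem subsingleton_quot (n : ℕ) {V : X.Opens} (hV : Disjoint (V : Set X) 𝓙.support) :
    Subsingleton Γ(ClSub.quotMod (𝓙 ^ (n + 1)), V) :=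
  subsingleton_of_disjoint (𝓙 ^ (n + 1)).subschemeι (S := (𝓙.support : Set X))
    (by rw [Scheme.IdealSheafData.range_subschemeι, Scheme.IdealSheafData.support_pow_succ]) hV

namespace FAlg

variable {F : FAlg 𝓙 E} {Φ : F.Forms}

/-- The opens on which the formal inverse of the form is visible. -/
def Vis (F : FAlg 𝓙 E) (Φ : F.Forms) (V : X.Opens) : Prop :=
  IsAffineOpen V ∧ (F.PerfV Φ V ∨ Disjoint (V : Set X) 𝓙.support)

theorem exists_vis_near (U : X.Opens) (x : X) (hx : x ∈ U) :
    ∃ V, F.Vis Φ V ∧ x ∈ V ∧ V ≤ U ∧ (x ∈ 𝓙.support → F.PerfV Φ V) := by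
  by_cases hxs : x ∈ 𝓙.support
  · obtain ⟨W, hW, hxW⟩ := F.exists_perfV Φ hxs
    obtain ⟨T, hT, hxT, hTle⟩ := exists_isAffineOpen_mem_and_subset (x := x) (U := U ⊓ W) ⟨hx, hxW⟩
    have := hW.mono hT fun y hy => (hTle hy).2
    exact ⟨T, ⟨hT, Or.inl this⟩, hxT, fun y hy => (hTle hy).1, fun _ => this⟩
  · let C : X.Opens := ⟨(𝓙.support : Set X)ᶜ, 𝓙.support.isClosed.isOpen_compl⟩
    obtain ⟨T, hT, hxT, hTle⟩ := exists_isAffineOpen_mem_and_subset (x := x) (U := U ⊓ C) ⟨hx, hxs⟩
    exact ⟨T, ⟨hT, Or.inr (Set.disjoint_left.2 fun y hy => (hTle hy).2)⟩, hxT, fun y hy => (hTle hy).1,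
      fun h => absurd h hxs⟩

theorem exists_invForm (hsup : ∀ n, Set.range (F.g n) ⊆ 𝓙.support) (n : ℕ) :
    ∃ z : dual E ⟶ F.lev n, ∀ (V : X.Opens) (hV : F.PerfV Φ V) (σ : Γ(dual E, V)),
      z.app V σ = F.κ n V (dualVec hV (pair E V σ)) := by
  classical
  let lam : ∀ V ∈ {V | F.Vis Φ V}, Γ(dual E, V) →ₗ[Γ(X, V)] Γ(F.lev n, V) := fun V _ =>
    if h : F.PerfV Φ V then
      { toFun := fun σ => (show Γ(F.lev n, V) from F.κ n V (dualVec h (pair E V σ)))
        map_add' := fun σ σ' => by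
          rw [map_add (pair E V), map_add (dualVec h), map_add (F.κ n V)]
          rfl
        map_smul' := fun r σ => by
          rw [map_smul (pair E V), map_smul (dualVec h)]
          exact F.κ_smul n V r _ }
    else 0
  obtain ⟨z, hz⟩ := FEtLefLib.exists_hom_of_basis (E := dual E) (M := F.lev n) (G := {V | F.Vis Φ V})
    (fun U x hx => (F.exists_vis_near (Φ := Φ) U x hx).imp fun V hV => ⟨hV.1, hV.2.1, hV.2.2.1⟩) lam
    fun V hV W hW x hxV hxW => by
      obtain ⟨T, hT, hxT, hTle, -⟩ := F.exists_vis_near (Φ := Φ) (V ⊓ W) x ⟨hxV, hxW⟩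
      have key : ∀ {U : X.Opens} (hU : F.Vis Φ U) (e : T ≤ U) (σ : Γ(dual E, U)),
          res (F.lev n) e (lam U hU σ) = lam T hT (res (dual E) e σ) := fun {U} hU e σ => by
        by_cases hTd : Disjoint (T : Set X) 𝓙.support
        · haveI : Subsingleton Γ(F.lev n, T) := subsingleton_of_disjoint (F.g n) (hsup n) hTd
          exact Subsingleton.elim _ _
        have hTP : F.PerfV Φ T := hT.2.resolve_right hTd
        have hUP : F.PerfV Φ U := hU.2.resolve_right fun h => hTd (h.mono_left e)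
        simp only [lam, dif_pos hTP, dif_pos hUP, LinearMap.coe_mk]
        refine (F.κ_res n e _).trans (congrArg (F.κ n T) ?_)
        obtain ⟨-, r, b, hb, hu⟩ := id hUP
        refine eq_of_β (hb.res e) (by rw [gram_res, ← RingHom.map_det]; exact hu.map _) fun i => ?_
        rw [β_dualVec, ← Φ.β_res, β_dualVec, res_pair]
      exact ⟨T, hT, hTle.trans inf_le_left, hTle.trans inf_le_right, hxT, key hV _, key hW _⟩
  exact ⟨z, fun V hV σ => (hz V ⟨hV.1, Or.inl hV⟩ σ).trans (by simp only [lam, dif_pos hV]; rfl)⟩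

/-- Bijectivity into the completion makes the form perfect everywhere. -/
theorem perfect (hLef : ∀ D : X.Modules, FlatMod.IsFinLocFree D → Lef.HomToFormalBijective 𝓙 D)
    (hsup : ∀ n, Set.range (F.g n) ⊆ 𝓙.support) : F.Perfect Φ := by
  classical
  choose z hz using F.exists_invForm (Φ := Φ) hsup
  have hvis : ∀ (U : X.Opens) (x : X), x ∈ U → ∃ V ∈ {V | F.Vis Φ V}, x ∈ V ∧ V ≤ U := fun U x hx =>
    (F.exists_vis_near (Φ := Φ) U x hx).imp fun V hV => ⟨hV.1, hV.2.1, hV.2.2.1⟩
  have hstep : ∀ n, z (n + 1) ≫ F.step n = z n := fun n => FEtLefLib.hom_ext_basis hvis fun V hV σ => by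
    by_cases hd : Disjoint (V : Set X) 𝓙.support
    · haveI : Subsingleton Γ(F.lev n, V) := subsingleton_of_disjoint (F.g n) (hsup n) hd
      exact Subsingleton.elim _ _
    have hP := hV.2.resolve_right hd
    show (F.step n).app V ((z (n + 1)).app V σ) = (z n).app V σ
    rw [hz (n + 1) V hP σ, hz n V hP σ]
    exact (F.step_app n V _).trans (F.κ_t n V _)
  let zv : ∀ n (V : X.Opens), Γ(dual E, V) → Γ(F.R n, F.g n ⁻¹ᵁ V) := fun n V σ => (z n).app V σ
  have zv_add : ∀ n V σ σ', zv n V (σ + σ') = zv n V σ + zv n V σ' := fun n V σ σ' =>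
    map_add ((z n).app V).hom σ σ'
  have zv_smul : ∀ n V (r : Γ(X, V)) σ, zv n V (r • σ) = (F.g n).app V r * zv n V σ := fun n V r σ =>
    (z n).app_smul r σ
  have hμ : ∀ n, ∃ μ : tens (dual E) (dual E) ⟶ F.lev n, ∀ V σ σ',
      μ.app V (shTm σ σ') = (show Γ(F.lev n, V) from zv n V σ' * zv n V σ) := fun n =>
    exists_hom2 (P := F.lev n)
      (fun V => LinearMap.mk₂ Γ(X, V) (fun σ σ' => (show Γ(F.lev n, V) from zv n V σ' * zv n V σ))
        (fun a a' b => by show zv n V b * zv n V (a + a') = _; rw [zv_add, mul_add]; rfl)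
        (fun r a b => by show zv n V b * zv n V (r • a) = _; rw [zv_smul, mul_left_comm]; rfl)
        (fun a b b' => by show zv n V (b + b') * zv n V a = _; rw [zv_add, add_mul]; rfl)
        (fun r a b => by show zv n V (r • b) * zv n V a = _; rw [zv_smul, mul_assoc]; rfl))
      fun V W h σ σ' => by
        show rr ((F.g n).preimage_mono h) (zv n W σ' * zv n W σ) = _
        exact (map_mul _ _ _).trans (congrArg₂ (fun a b : Γ(F.R n, F.g n ⁻¹ᵁ V) => a * b)
          (app_res (z n) h σ') (app_res (z n) h σ))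
  choose μ hμ using hμ
  have hμs : ∀ n, μ (n + 1) ≫ F.step n = μ n := fun n => hom2_ext fun V σ σ' => by
    show (F.step n).app V ((μ (n + 1)).app V (shTm σ σ')) = _
    have k : ∀ τ, F.tres n V (zv (n + 1) V τ) = zv n V τ := fun τ =>
      (F.step_app n V _).symm.trans
        congr($(congrArg (fun f : dual E ⟶ _ => Scheme.Modules.Hom.app f V) (hstep n)) τ)
    rw [hμ (n + 1) V σ σ', hμ n V σ σ']
    exact (F.step_app n V _).trans ((map_mul (F.tres n V) _ _).trans (by rw [k, k]))
  have hdu : FlatMod.IsFinLocFree (dual E) :=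
    CohCmpLib.isFinLocFree_homMod F.hE (Groth.Agent.S1063.isFinLocFree_structureModule X)
  obtain ⟨ψ, hψ⟩ := F.exists_global (hLef _ (Groth.Agent.S1063.isFinLocFree_tens hdu hdu)) μ hμs
  obtain ⟨φ, hφ⟩ := exists_hom2 (A := E) (B := E) (P := Coh.structureModule X) (fun V => (Φ.β V).flip)
    fun V W h a b => Φ.β_res h b a
  have hb : ∀ (V : X.Opens) (a m : Γ(E, V)), pair E V ((curryMod φ).app V a) m = Φ.β V a m := fun V a m => by
    rw [pair_apply]
    refine section_ext _ _ fun y hy => ?_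
    rw [CohCmpLib.ger_happ, CohCmpLib.hVal_curryMod, CohCmpLib.evS_ger, hφ V m a]
    rfl
  obtain ⟨c, hc⟩ := exists_hom2 (A := E) (B := dual E) (P := Coh.structureModule X)
    (fun V => LinearMap.mk₂ Γ(X, V)
      (fun a σ => (show Γ(X, V) from ψ.app V (shTm ((curryMod φ).app V a) σ)))
      (fun a a' σ => (congrArg (fun t => ψ.app V (shTm t σ)) (map_add ((curryMod φ).app V).hom a a')).trans
        ((congrArg (ψ.app V) (shTm_add_left _ _ σ)).trans (map_add (ψ.app V).hom _ _)))
      (fun r a σ => (congrArg (fun t => ψ.app V (shTm t σ)) ((curryMod φ).app_smul r a)).trans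
        ((congrArg (ψ.app V) (shTm_smul_left r _ σ)).trans (ψ.app_smul r _)))
      (fun a σ σ' => (congrArg (ψ.app V) (shTm_add_right _ σ σ')).trans (map_add (ψ.app V).hom _ _))
      (fun r a σ => (congrArg (ψ.app V) (shTm_smul_right r _ σ)).trans (ψ.app_smul r _)))
    fun V W h a σ => (app_res ψ h _).trans (congrArg (ψ.app V)
      ((ProjFormLib.shTm_res h _ σ).trans (congrArg (shTm · _) (app_res (curryMod φ) h a))))
  obtain ⟨e, he⟩ := exists_hom2 (A := E) (B := dual E) (P := Coh.structureModule X) (fun V => (pair E V).flip)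
    fun V W h a σ => res_pair h σ a
  have hce : c = e := (hLef _ (Groth.Agent.S1063.isFinLocFree_tens F.hE hdu)).1 c e fun n => by
    refine hom2_ext fun V a σ => ?_
    show (ClSub.toSubscheme _).app V (c.app V (shTm a σ)) = (ClSub.toSubscheme _).app V (e.app V (shTm a σ))
    refine FEtLefLib.eq_of_near _ fun y hy => ?_
    obtain ⟨W, hW, hyW, hWV, -⟩ := F.exists_vis_near (Φ := Φ) V y hy
    refine ⟨W, hWV, hyW, ?_⟩
    by_cases hd : Disjoint (W : Set X) 𝓙.support
    · haveI := subsingleton_quot (𝓙 := 𝓙) n hd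
      exact Subsingleton.elim _ _
    have hP := hW.2.resolve_right hd
    refine (FEtLefLib.rm_red _ _ _).trans (Eq.trans ?_ (FEtLefLib.rm_red _ _ _).symm)
    have e1 : rr hWV (show Γ(X, V) from c.app V (shTm a σ)) =
        (show Γ(X, W) from ψ.app W (shTm ((curryMod φ).app W (res E hWV a)) (res (dual E) hWV σ))) :=
      (app_res c hWV _).trans ((congrArg (c.app W) (ProjFormLib.shTm_res hWV a σ)).trans (hc W _ _))
    have e2 : rr hWV (show Γ(X, V) from e.app V (shTm a σ)) =
        pair E W (res (dual E) hWV σ) (res E hWV a) :=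
      (app_res e hWV _).trans ((congrArg (e.app W) (ProjFormLib.shTm_res hWV a σ)).trans (he W _ _))
    show FEtLefLib.red _ W (rr hWV _) = FEtLefLib.red _ W (rr hWV _)
    rw [e1, e2]
    generalize res E hWV a = a', res (dual E) hWV σ = σ'
    refine (congr($(congrArg (fun f : tens (dual E) (dual E) ⟶ _ => Scheme.Modules.Hom.app f W) (hψ n))
      (shTm ((curryMod φ).app W a') σ'))).trans ?_
    refine (congrArg ((F.T n).app W) (hμ n W _ _)).trans ?_
    refine (F.T_iff n hP.framed _ _).2 ?_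
    have hda : dualVec hP (pair E W ((curryMod φ).app W a')) = a' := by
      obtain ⟨-, r, b, hb', hu⟩ := id hP
      exact eq_of_β hb' hu fun i => by rw [β_dualVec, hb]
    have hz' : ∀ τ, zv n W τ = F.κ n W (dualVec hP (pair E W τ)) := hz n W hP
    rw [hz', hz', hda]
    have := Φ.β_spec n hP.framed (dualVec hP (pair E W σ')) a'
    rwa [β_dualVec] at this
  intro x
  obtain ⟨V, hV, hxV, -⟩ := exists_framed_near F.hE ⊤ x trivial
  obtain ⟨r, b, hb'⟩ := id hV.2
  choose s hs using fun k : Fin r => exists_dual_frame hb' fun i => if k = i then (1 : Γ(X, V)) else 0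
  refine ⟨V, ⟨hV.1, r, b, hb', ?_⟩, hxV⟩
  have hexp : ∀ i, (curryMod φ).app V (b i) = ∑ k, F.gram Φ b i k • s k := fun i => dual_ext hb' fun l => by
    rw [hb, map_sum, LinearMap.sum_apply]
    simp only [map_smul, LinearMap.smul_apply, hs, smul_eq_mul, mul_ite, mul_one, mul_zero, Finset.sum_ite_eq',
      Finset.mem_univ, if_true]
    rfl
  refine Matrix.isUnit_det_of_right_inverse (B := Matrix.of fun k l => (show Γ(X, V) from ψ.app V (shTm (s k) (s l))))
    (Matrix.ext fun i l => ?_)
  have h := congr($(congrArg (fun f : tens E (dual E) ⟶ _ => Scheme.Modules.Hom.app f V) hce) (shTm (b i) (s l)))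
  rw [hc V (b i) (s l), he V (b i) (s l)] at h
  rw [Matrix.mul_apply, Matrix.one_apply]
  refine Eq.trans ?_ ((h.trans (hs l i)).trans (if_congr eq_comm rfl rfl))
  show _ = ψ.app V (shTm ((curryMod φ).app V (b i)) (s l))
  rw [hexp i]
  let ev : Γ(dual E, V) →ₗ[Γ(X, V)] Γ(X, V) :=
    { toFun := fun σ => (show Γ(X, V) from ψ.app V (shTm σ (s l)))
      map_add' := fun a a' => (congrArg (ψ.app V) (shTm_add_left a a' _)).trans (map_add (ψ.app V).hom _ _)
      map_smul' := fun r a => (congrArg (ψ.app V) (shTm_smul_left r a _)).trans (ψ.app_smul r _) }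
  show _ = ev (∑ k, F.gram Φ b i k • s k)
  rw [map_sum]
  exact Finset.sum_congr rfl fun k _ => (map_smul ev _ _).symm

end FAlg

end LeffEt

end
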