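import Groth.Agent.LeffEtLib.Ext
import Groth.Agent.LeffEtLib.Everywhere
import Groth.Agent.FEtLefLib.Compl

/-!
# Essential surjectivity of restriction from an equivalence on completions
-/

set_option autoImplicit false
set_option linter.style.haveILetI false
set_option maxHeartbeats 400000

universe u

open CategoryTheory CategoryTheory.Limits AlgebraicGeometry TopologicalSpace Opposite

noncomputable section

namespace LeffEt

variable {X : Scheme.{u}} {𝓘 : X.IdealSheafData}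

theorem essSurj_restrict
    (hLef : ∀ D : X.Modules, FlatMod.IsFinLocFree D → Lef.HomToFormalBijective 𝓘 D)
    (hess : ∀ 𝔐 : FSch.ModSys (FSch.completionAlong X 𝓘), LefX.LevelwiseFinLocFree 𝔐 →
      ∃ F : X.Modules, FlatMod.IsFinLocFree F ∧ Nonempty (FSch.complMod 𝓘 F ≅ 𝔐)) :
    (FEt.restrict 𝓘.subschemeι).EssSurj := by
  refine ⟨fun R => ?_⟩
  obtain ⟨C⟩ := nonempty_chain 𝓘 R
  obtain ⟨E, hE, ⟨φ⟩⟩ := hess C.sys C.levelwise
  let FA : FAlg 𝓘 E := { toPre := C.pre φ, hE := hE }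
  obtain ⟨Φ⟩ := FA.nonempty_forms hLef
  have hperf : FA.Perfect Φ := FAlg.perfect hLef (C.range_pre φ)
  have hcov : ∀ {K : X.IdealSheafData} (F : FAlg K E) (Φ : F.Forms), K = 𝓘.comap (𝟙 X) → ∀ e₀ : F.R 0 ≅ C.T 0,
      e₀.hom ≫ C.π 0 ≫ lι 𝓘 0 = F.g 0 ≫ 𝟙 X → F.Perfect Φ →
      ∃ R' : FEt.Cat X, ∀ i : 𝓘.subscheme ⟶ X, i ≫ 𝟙 X = 𝓘.subschemeι →
        Nonempty ((FEt.restrict i).obj R' ≅ R) := by
    intro K F Φ hK e₀ he hp
    subst hK
    exact exists_cover C (𝟙 X) F e₀ he (by rw [Scheme.IdealSheafData.comap_id]; exact hLef) Φ hp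
  obtain ⟨R', hR'⟩ := hcov FA Φ (Scheme.IdealSheafData.comap_id _).symm (Iso.refl _)
    (by rw [Category.comp_id]; exact Category.id_comp _) hperf
  exact ⟨R', hR' _ (Category.comp_id _)⟩

end LeffEt

end
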