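import Groth.Agent.LeffEtLib.Restrict

/-!
# Restriction of the forms of a formal algebra
-/

set_option autoImplicit false
set_option linter.style.haveILetI false
set_option linter.unusedSectionVars false

universe u

open CategoryTheory CategoryTheory.Limits AlgebraicGeometry TopologicalSpace Opposite
open ProjFormLib (res IsFrame exists_frame)

noncomputable section

namespace LeffEt

variable {X X' : Scheme.{u}} {j : X' ⟶ X} [IsOpenImmersion j]

variable (j) in
/-- Functions on the image, as functions on the neighbourhood. -/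
def toNbhd (V : X'.Opens) : Γ(X, j ''ᵁ V) ≃+* Γ(X', V) := (j.appIso V).commRingCatIsoToRingEquiv

theorem toNbhd_symm (V : X'.Opens) (r : Γ(X', V)) : (toNbhd j V).symm r = (j.appIso V).inv r := rfl

theorem rr_toNbhd {V W : X'.Opens} (h : W ≤ V) (x : Γ(X, j ''ᵁ V)) :
    rr h (toNbhd j V x) = toNbhd j W (rr (j.image_mono h) x) := by
  show rr h ((j.appIso V).hom x) = (j.appIso W).hom (rr (j.image_mono h) x)
  rw [Scheme.Hom.appIso_hom', Scheme.Hom.appIso_hom', appLE_rr j (j.image_mono h) _ h (j.preimage_image_eq V).ge]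

theorem toNbhd_smul (V : X'.Opens) (r : Γ(X', V)) (x : Γ(X, j ''ᵁ V)) :
    toNbhd j V ((toNbhd j V).symm r * x) = r * toNbhd j V x := by
  rw [map_mul, RingEquiv.apply_symm_apply]

namespace FAlg

variable {𝓙 : X.IdealSheafData} {E : X.Modules} (F : FAlg 𝓙 E) (hsub : ∀ n, Set.range (F.g n) ⊆ Set.range j)
  (hE : FlatMod.IsFinLocFree (E.restrict j))

/-- The restricted formal algebra. -/
abbrev res' : FAlg (𝓙.comap j) (E.restrict j) := F.toPre.restrict j hsub hE

theorem isTr_restrict (n : ℕ) {V : X'.Opens} (hV : IsAffineOpen V) {z : Γ(F.R n, F.g n ⁻¹ᵁ (j ''ᵁ V))}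
    {s : Γ(X, j ''ᵁ V)} (hs : F.IsTr n (hV.image_of_isOpenImmersion j) z s) :
    (F.res' hsub hE).IsTr n hV (rr (Pre.preimage_eq _ (F.toPre.restrictG_ι j hsub n) V).le z)
      (toNbhd j V s) := by
  intro r b hb C hC
  have hC' : F.IsLiftMat n (fun i => (show Γ(E, j ''ᵁ V) from b i)) z fun i k => (toNbhd j V).symm (C i k) :=
    fun i => (Pre.bijective_rr (Pre.preimage_eq _ (F.toPre.restrictG_ι j hsub n) V)).1
      ((hC i).trans (map_mul (rr (Pre.preimage_eq _ (F.toPre.restrictG_ι j hsub n) V).le) z _).symm)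
  have h := hs r _ (isFrame_image j hb) _ hC'
  rw [← FComplLib.comap_pow_succ j 𝓙 n, Pre.ideal_image]
  show (toNbhd j V).symm (toNbhd j V s - ∑ i, C i i) ∈ _
  rw [map_sub, map_sum, RingEquiv.symm_apply_apply]
  exact h

variable {F} (Φ : F.Forms)

/-- The restriction of a form. -/
def εRes (V : X'.Opens) : Γ(E.restrict j, V) →ₗ[Γ(X', V)] Γ(X', V) where
  toFun a := toNbhd j V (Φ.ε (j ''ᵁ V) (show Γ(E, j ''ᵁ V) from a))
  map_add' a b := (congrArg (toNbhd j V) (map_add (Φ.ε (j ''ᵁ V)) _ _)).trans (map_add _ _ _)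
  map_smul' r a := (congrArg (toNbhd j V)
    (map_smul (Φ.ε (j ''ᵁ V)) ((toNbhd j V).symm r) _)).trans (toNbhd_smul V r _)

/-- The restriction of a bilinear form. -/
def βRes (V : X'.Opens) : Γ(E.restrict j, V) →ₗ[Γ(X', V)] Γ(E.restrict j, V) →ₗ[Γ(X', V)] Γ(X', V) :=
  LinearMap.mk₂ Γ(X', V)
    (fun a b => toNbhd j V (Φ.β (j ''ᵁ V) (show Γ(E, j ''ᵁ V) from a) (show Γ(E, j ''ᵁ V) from b)))
    (fun _ _ _ => (congrArg (toNbhd j V) ((Φ.β (j ''ᵁ V)).map_add₂ _ _ _)).trans (map_add _ _ _))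
    (fun r _ _ => (congrArg (toNbhd j V) ((Φ.β (j ''ᵁ V)).map_smul₂ ((toNbhd j V).symm r) _ _)).trans
      (toNbhd_smul V r _))
    (fun _ _ _ => (congrArg (toNbhd j V) (map_add (Φ.β (j ''ᵁ V) _) _ _)).trans (map_add _ _ _))
    (fun r _ _ => (congrArg (toNbhd j V) (map_smul (Φ.β (j ''ᵁ V) _) ((toNbhd j V).symm r) _)).trans
      (toNbhd_smul V r _))

/-- The restriction of a trilinear form. -/
def τRes (V : X'.Opens) :
    Γ(E.restrict j, V) →ₗ[Γ(X', V)] Γ(E.restrict j, V) →ₗ[Γ(X', V)] Γ(E.restrict j, V) →ₗ[Γ(X', V)] Γ(X', V) :=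
  LinearMap.mk₂ Γ(X', V)
    (fun a b =>
      { toFun := fun c => toNbhd j V (Φ.τ (j ''ᵁ V) (show Γ(E, j ''ᵁ V) from a) (show Γ(E, j ''ᵁ V) from b)
          (show Γ(E, j ''ᵁ V) from c))
        map_add' := fun _ _ => (congrArg (toNbhd j V) (map_add (Φ.τ (j ''ᵁ V) _ _) _ _)).trans (map_add _ _ _)
        map_smul' := fun r _ => (congrArg (toNbhd j V)
          (map_smul (Φ.τ (j ''ᵁ V) _ _) ((toNbhd j V).symm r) _)).trans (toNbhd_smul V r _) })
    (fun _ _ _ => LinearMap.ext fun _ => (congrArg (toNbhd j V)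
      (LinearMap.congr_fun ((Φ.τ (j ''ᵁ V)).map_add₂ _ _ _) _)).trans (map_add _ _ _))
    (fun r _ _ => LinearMap.ext fun _ => (congrArg (toNbhd j V)
      (LinearMap.congr_fun ((Φ.τ (j ''ᵁ V)).map_smul₂ ((toNbhd j V).symm r) _ _) _)).trans (toNbhd_smul V r _))
    (fun _ _ _ => LinearMap.ext fun _ => (congrArg (toNbhd j V)
      (LinearMap.congr_fun (map_add (Φ.τ (j ''ᵁ V) _) _ _) _)).trans (map_add _ _ _))
    (fun r _ _ => LinearMap.ext fun _ => (congrArg (toNbhd j V)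
      (LinearMap.congr_fun (map_smul (Φ.τ (j ''ᵁ V) _) ((toNbhd j V).symm r) _) _)).trans (toNbhd_smul V r _))

/-- The restricted forms. -/
def Forms.restrict : (F.res' hsub hE).Forms where
  ε := εRes Φ
  β := βRes Φ
  τ := τRes Φ
  ε_res h a := (rr_toNbhd h _).trans (congrArg (toNbhd j _) (Φ.ε_res (j.image_mono h) _))
  β_res h a b := (rr_toNbhd h _).trans (congrArg (toNbhd j _) (Φ.β_res (j.image_mono h) _ _))
  τ_res h a b c := (rr_toNbhd h _).trans (congrArg (toNbhd j _) (Φ.τ_res (j.image_mono h) _ _ _))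
  ε_spec n {V} hV a := F.isTr_restrict hsub hE n hV.1 (Φ.ε_spec n (framed_image j hV) _)
  β_spec n {V} hV a b := by
    have h := F.isTr_restrict hsub hE n hV.1
      (Φ.β_spec n (framed_image j hV) (show Γ(E, j ''ᵁ V) from a) (show Γ(E, j ''ᵁ V) from b))
    rw [map_mul] at h
    exact h
  τ_spec n {V} hV a b c := by
    have h := F.isTr_restrict hsub hE n hV.1
      (Φ.τ_spec n (framed_image j hV) (show Γ(E, j ''ᵁ V) from a) (show Γ(E, j ''ᵁ V) from b)
        (show Γ(E, j ''ᵁ V) from c))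
    rw [map_mul, map_mul] at h
    exact h

theorem perfV_restrict {V : X'.Opens} (h : F.PerfV Φ (j ''ᵁ V)) :
    (F.res' hsub hE).PerfV (Φ.restrict hsub hE) V := by
  obtain ⟨hV, r, b, hb, hu⟩ := h
  refine ⟨(Scheme.Hom.isAffineOpen_iff_of_isOpenImmersion j).1 hV, r, _, isFrame_preimage j hb, ?_⟩
  have e : (F.res' hsub hE).gram (Φ.restrict hsub hE) (fun i => (show Γ(E.restrict j, V) from b i)) =
      (toNbhd j V).toRingHom.mapMatrix (F.gram Φ b) := rfl
  rw [e, ← RingHom.map_det]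
  exact hu.map _

end FAlg

end LeffEt

end
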