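import Groth.Agent.LeffEtLib.Levels
import Groth.Agent.LeffEtLib.RestrictForms
import Groth.Agent.PerfLib.Restrict

/-!
# Extension of finite étale covers to a neighbourhood, from the effective Lefschetz condition
-/

set_option autoImplicit false
set_option linter.style.haveILetI false
set_option linter.unusedSectionVars false
set_option maxHeartbeats 400000

universe u

open CategoryTheory CategoryTheory.Limits AlgebraicGeometry TopologicalSpace Opposite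

noncomputable section

namespace LeffEt

variable {X : Scheme.{u}} {𝓘 : X.IdealSheafData}

instance isIso_base0 : IsIso (base0 𝓘) := by
  have h : 𝓘 ^ (0 + 1) ≤ 𝓘 := by rw [zero_add, pow_one]
  exact ⟨Scheme.IdealSheafData.inclusion h,
    by rw [base0, Scheme.IdealSheafData.inclusion_comp, Scheme.IdealSheafData.inclusion_id],
    by rw [base0, Scheme.IdealSheafData.inclusion_comp, Scheme.IdealSheafData.inclusion_id]⟩

theorem base0_ι : base0 𝓘 ≫ 𝓘.subschemeι = lι 𝓘 0 := Scheme.IdealSheafData.inclusion_subschemeι _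

theorem exists_iso_base {R : FEt.Cat 𝓘.subscheme} (P : FEt.Cat (Lv 𝓘 0))
    (hP : P = (FEt.restrict (base0 𝓘)).obj R) :
    ∃ e : P.left ≅ R.left, e.hom ≫ R.hom = P.hom ≫ base0 𝓘 := by
  subst hP
  have hfst : IsIso (pullback.fst R.hom (base0 𝓘)) :=
    (MorphismProperty.isomorphisms.iff _).1 (MorphismProperty.pullback_fst _ _ ((MorphismProperty.isomorphisms.iff _).2 inferInstance))
  exact ⟨@asIso _ _ _ _ (pullback.fst R.hom (base0 𝓘)) hfst, pullback.condition⟩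

/-- A lift of the inclusion of the closed subscheme to a neighbourhood is a base change. -/
theorem isPullback_lift {X' : Scheme.{u}} (j : X' ⟶ X) [IsOpenImmersion j] (i : 𝓘.subscheme ⟶ X')
    (hi : i ≫ j = 𝓘.subschemeι) :
    IsPullback i (𝟙 _) j 𝓘.subschemeι :=
  ⟨⟨hi.trans (Category.id_comp _).symm⟩, ⟨PullbackCone.IsLimit.mk _ (fun s => s.snd)
    (fun s => by rw [← cancel_mono j, Category.assoc, hi, s.condition])
    (fun s => Category.comp_id _) (fun s m _ h2 => by simpa using h2)⟩⟩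

/-- A finite étale cover of the neighbourhood from the algebraised formal algebra. -/
theorem exists_cover {R : FEt.Cat 𝓘.subscheme} (C : Chain 𝓘 R) {X' : Scheme.{u}} (j : X' ⟶ X)
    [IsOpenImmersion j] {E : X'.Modules}
    (F : FAlg (𝓘.comap j) E) (e₀ : F.R 0 ≅ C.T 0)
    (he₀ : e₀.hom ≫ C.π 0 ≫ lι 𝓘 0 = F.g 0 ≫ j)
    (hLef : ∀ D : X'.Modules, FlatMod.IsFinLocFree D → Lef.HomToFormalBijective (𝓘.comap j) D)
    (Φ : F.Forms) (hperf : F.Perfect Φ) :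
    ∃ R' : FEt.Cat X', ∀ i : 𝓘.subscheme ⟶ X', i ≫ j = 𝓘.subschemeι →
      Nonempty ((FEt.restrict i).obj R' ≅ R) := by
  obtain ⟨M⟩ := FAlg.nonempty_mult (F := F) (Φ := Φ) hperf
  have hL : M.Laws := FAlg.Mult.laws M hLef hperf
  haveI : IsFinite (FAlg.Mult.alg hL).π := FAlg.Mult.isFinite_π hL
  haveI : Etale (FAlg.Mult.alg hL).π := FAlg.etale_π hLef hperf hL
  refine ⟨MorphismProperty.Over.mk (P := FEt.prop) ⊤ (FAlg.Mult.alg hL).π ⟨inferInstance, inferInstance⟩,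
    fun i hi => ?_⟩
  have hsq := isPullback_lift j i hi
  haveI : IsClosedImmersion i := MorphismProperty.of_isPullback hsq.flip inferInstance
  have hk : i.ker = 𝓘.comap j := by
    rw [← hsq.isoPullback_hom_fst, Scheme.Hom.ker_comp_of_isIso, Scheme.IdealSheafData.ker_fst_of_isClosedImmersion,
      Scheme.IdealSheafData.ker_subschemeι]
  have hk' : ((𝓘.comap j) ^ (0 + 1)).subschemeι.ker = i.ker := by
    rw [Scheme.IdealSheafData.ker_subschemeι, hk, zero_add, pow_one]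
  let w := IsClosedImmersion.lift ((𝓘.comap j) ^ (0 + 1)).subschemeι i hk'.le
  haveI : IsIso w := IsClosedImmersion.isIso_lift _ _ hk'
  have hw : w ≫ ((𝓘.comap j) ^ (0 + 1)).subschemeι = i := IsClosedImmersion.lift_fac _ _ _
  obtain ⟨eR, heR⟩ := exists_iso_base (C.P 0) C.base
  let q : F.R 0 ⟶ 𝓘.subscheme := e₀.hom ≫ C.π 0 ≫ base0 𝓘
  have hq : q ≫ i = F.g 0 := by
    rw [← cancel_mono j, Category.assoc, Category.assoc, Category.assoc, hi, base0_ι]
    exact he₀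
  haveI : IsFinite (F.g 0) := by
    rw [← hq]
    infer_instance
  have hr : (q ≫ w) ≫ ((𝓘.comap j) ^ (0 + 1)).subschemeι = F.g 0 := by rw [Category.assoc, hw, hq]
  obtain ⟨h, hpb⟩ := FAlg.exists_isPullback (M := M) hL (q ≫ w) hr
  have hpb' : IsPullback h q (FAlg.Mult.alg hL).π i :=
    hpb.of_iso (Iso.refl _) (Iso.refl _) (asIso w).symm (Iso.refl _) (by simp) (by simp) (by simp)
      (by rw [Iso.symm_hom, asIso_inv, Iso.refl_hom, Category.comp_id, IsIso.eq_inv_comp, hw])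
  refine ⟨MorphismProperty.Over.isoMk (hpb'.isoPullback.symm ≪≫ e₀ ≪≫ eR) ?_⟩
  show (hpb'.isoPullback.inv ≫ e₀.hom ≫ eR.hom) ≫ R.hom = pullback.snd _ _
  rw [Category.assoc, Category.assoc, heR]
  exact hpb'.isoPullback_inv_snd

/-- The effective Lefschetz condition extends finite étale covers to a neighbourhood. -/
theorem exists_nhd_extension [IsLocallyNoetherian X] (h : LefX.LeffCond X 𝓘) (R : FEt.Cat 𝓘.subscheme) :
    ∃ (U : X.Opens) (R' : FEt.Cat (U : Scheme.{u})), (𝓘.support : Set X) ⊆ (U : Set X) ∧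
      ∀ i : 𝓘.subscheme ⟶ (U : Scheme.{u}), i ≫ U.ι = 𝓘.subschemeι →
        Nonempty ((FEt.restrict i).obj R' ≅ R) := by
  obtain ⟨C⟩ := nonempty_chain 𝓘 R
  obtain ⟨U₀, E, hY, hEf, ⟨φ'⟩⟩ := h.2 C.sys C.levelwise
  let G := (Scheme.Modules.pushforward U₀.ι).obj E
  let φ : FSch.complMod 𝓘 G ≅ C.sys := (LefAlgzLib.completionModIso 𝓘 G).symm ≪≫ φ'
  have hs : ∀ n, Set.range ((C.pre φ).g n) ⊆ Set.range U₀.ι := fun n => by
    rw [Scheme.Opens.range_ι]
    exact (C.range_pre φ n).trans hY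
  have hE₀ : FlatMod.IsFinLocFree (G.restrict U₀.ι) :=
    Groth.Agent.PerfLib.isFinLocFree_of_iso (asIso ((Scheme.Modules.restrictAdjunction U₀.ι).counit.app E)).symm hEf
  let F₀ : FAlg (𝓘.comap U₀.ι) (G.restrict U₀.ι) := (C.pre φ).restrict U₀.ι hs hE₀
  obtain ⟨Φ₀⟩ := F₀.nonempty_forms (h.1 U₀ hY)
  let U₁ : X.Opens := ⨆ V : {V : (U₀ : Scheme.{u}).Opens // F₀.PerfV Φ₀ V}, U₀.ι ''ᵁ V.1
  have hle : U₁ ≤ U₀ := iSup_le fun V => U₀.ι.image_le_opensRange V.1 |>.trans U₀.opensRange_ι.le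
  have hY₁ : (𝓘.support : Set X) ⊆ (U₁ : Set X) := fun y hy => by
    have hy' : (⟨y, hY hy⟩ : (U₀ : Scheme.{u})) ∈ (𝓘.comap U₀.ι).support := by
      rw [Scheme.IdealSheafData.support_comap]
      exact hy
    obtain ⟨V, hV, hyV⟩ := F₀.exists_perfV Φ₀ hy'
    exact Opens.mem_iSup.2 ⟨⟨V, hV⟩, ⟨_, hyV, rfl⟩⟩
  let j := X.homOfLE hle
  have hj : j ≫ U₀.ι = U₁.ι := X.homOfLE_ι hle
  have hg₀ : ∀ n, F₀.g n ≫ U₀.ι = (C.pre φ).g n := fun n => IsOpenImmersion.lift_fac _ _ _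
  have hs₁ : ∀ n, Set.range (F₀.g n) ⊆ Set.range j := by
    rintro n _ ⟨x, rfl⟩
    have hx : U₀.ι (F₀.g n x) ∈ U₁ := by
      rw [← Scheme.Hom.comp_apply, hg₀]
      exact hY₁ (C.range_pre φ n ⟨x, rfl⟩)
    exact ⟨⟨_, hx⟩, U₀.ι.isOpenEmbedding.injective
      ((Scheme.Hom.comp_apply j U₀.ι ⟨_, hx⟩).symm.trans (congrArg (fun f : (U₁ : Scheme.{u}) ⟶ X => f ⟨_, hx⟩) hj))⟩
  have hE₁ := isFinLocFree_restrict j F₀.hE
  let F₁ := F₀.res' hs₁ hE₁
  let Φ₁ : F₁.Forms := Φ₀.restrict hs₁ hE₁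
  have hperf : F₁.Perfect Φ₁ := fun x => by
    have hx : U₁.ι x ∈ U₁ := x.2
    obtain ⟨⟨V, hV⟩, hxV⟩ := Opens.mem_iSup.1 hx
    have hjx : x ∈ j ⁻¹ᵁ V := by
      obtain ⟨v, hv, hvx⟩ := hxV
      show j x ∈ V
      have e : v = j x := U₀.ι.isOpenEmbedding.injective (hvx.trans (by rw [← Scheme.Hom.comp_apply, hj]))
      exact e ▸ hv
    obtain ⟨W, hW, hxW, hWle⟩ := exists_isAffineOpen_mem_and_subset hjx
    exact ⟨W, FAlg.perfV_restrict hs₁ hE₁ Φ₀ (hV.mono (hW.image_of_isOpenImmersion j)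
      ((j.image_mono hWle).trans (by rw [j.image_preimage_eq_opensRange_inf]; exact inf_le_right))), hxW⟩
  have hcov : ∀ {K : ((U₁ : Scheme.{u})).IdealSheafData} {E₁ : (U₁ : Scheme.{u}).Modules} (F : FAlg K E₁)
      (Φ : F.Forms), K = 𝓘.comap U₁.ι → ∀ e₀ : F.R 0 ≅ C.T 0,
      e₀.hom ≫ C.π 0 ≫ lι 𝓘 0 = F.g 0 ≫ U₁.ι → F.Perfect Φ →
      ∃ R' : FEt.Cat (U₁ : Scheme.{u}), ∀ i : 𝓘.subscheme ⟶ (U₁ : Scheme.{u}), i ≫ U₁.ι = 𝓘.subschemeι →
        Nonempty ((FEt.restrict i).obj R' ≅ R) := by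
    intro K E₁ F Φ hK e₀ he hp
    subst hK
    exact exists_cover C U₁.ι F e₀ he (h.1 U₁ hY₁) Φ hp
  obtain ⟨R', hR'⟩ := hcov F₁ Φ₁
    (by rw [← Scheme.IdealSheafData.comap_comp, hj]) (Iso.refl _)
    (by
      have e1 : F₁.g 0 ≫ j = F₀.g 0 := IsOpenImmersion.lift_fac _ _ _
      refine (Category.id_comp _).trans ?_
      rw [← hj, ← Category.assoc (F₁.g 0), e1]
      exact (hg₀ 0).symm) hperf
  exact ⟨U₁, R', hY₁, hR'⟩

end LeffEt

end
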