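import Groth.Agent.LeffEtLib.Data
import Groth.Agent.FEtLefLib.Compl

/-!
# The global forms of a formal algebra, from the Lefschetz condition
-/

set_option autoImplicit false
set_option linter.style.haveILetI false
set_option linter.unusedSectionVars false

universe u

open CategoryTheory CategoryTheory.Limits AlgebraicGeometry TopologicalSpace Opposite
open ProjFormLib (res IsFrame exists_frame)
open KFlatLib (tens shTm)

noncomputable section

namespace LeffEt

theorem qMap_app {Z₀ Z₁ X : Scheme.{u}} (τ : Z₀ ⟶ Z₁) (j₁ : Z₁ ⟶ X) {j₀ : Z₀ ⟶ X} (hc : τ ≫ j₁ = j₀)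
    (V : X.Opens) (z : Γ(Z₁, j₁ ⁻¹ᵁ V)) (h : j₀ ⁻¹ᵁ V ≤ τ ⁻¹ᵁ (j₁ ⁻¹ᵁ V)) :
    (FEtLefLib.qMap τ j₁ hc).app V z = τ.appLE (j₁ ⁻¹ᵁ V) (j₀ ⁻¹ᵁ V) h z := by
  subst hc
  simp only [FEtLefLib.qMap, FCohLib.pushTri, Iso.trans_hom, NatTrans.comp_app, Scheme.Hom.appLE]
  simp
  rfl

variable {X : Scheme.{u}} {𝓙 : X.IdealSheafData} {E : X.Modules}

namespace FAlg

variable (F : FAlg 𝓙 E)

/-- The quotient morphism of a level. -/
def κHom (n : ℕ) : E ⟶ F.lev n :=
  ⟨PresheafOfModules.homMk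
    { app := fun U => AddCommGrpCat.ofHom (F.κ n U.unop)
      naturality := fun U V i => by
        ext a
        exact (F.κ_res n i.unop.le a).symm }
    (fun U r a => F.κ_smul n U.unop r a)⟩

theorem κHom_app (n : ℕ) (V : X.Opens) (x : Γ(E, V)) : (F.κHom n).app V x = F.κ n V x := rfl

/-- The transition of levels. -/
abbrev step (n : ℕ) : F.lev (n + 1) ⟶ F.lev n := FEtLefLib.qMap (F.t n) (F.g (n + 1)) (F.ht n)

theorem step_app (n : ℕ) (V : X.Opens) (z : Γ(F.R (n + 1), F.g (n + 1) ⁻¹ᵁ V)) :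
    (F.step n).app V z = F.tres n V z :=
  qMap_app _ _ _ V z _

theorem T_step (n : ℕ) : F.T (n + 1) ≫ Lef.quotMap (Lef.pow_succ_le 𝓙 n) = F.step n ≫ F.T n := by
  refine FEtLefLib.hom_ext_basis (G := {V | Framed E V}) (fun U x hx => exists_framed_near F.hE U x hx)
    fun V hV z => ?_
  obtain ⟨s, hs⟩ := F.exists_isTr (n + 1) hV z
  show (Lef.quotMap (Lef.pow_succ_le 𝓙 n)).app V ((F.T (n + 1)).app V z) = (F.T n).app V ((F.step n).app V z)
  rw [(F.T_iff (n + 1) hV z s).2 hs]
  refine (FEtLefLib.quotMap_red _ V s).trans ?_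
  refine Eq.trans ((F.T_iff n hV _ s).2 (F.isTr_step n hV hs)).symm ?_
  exact congrArg ((F.T n).app V) (F.step_app n V z).symm

/-- Multiplication by the product of the values. -/
theorem exists_mulHom2 (n : ℕ) :
    ∃ φ : tens E E ⟶ F.lev n, ∀ V a b, φ.app V (shTm a b) = F.κ n V a * F.κ n V b :=
  exists_hom2 (P := F.lev n)
    (fun V => LinearMap.mk₂ Γ(X, V) (fun a b => (show Γ(F.lev n, V) from F.κ n V a * F.κ n V b))
      (fun a a' b => by show F.κ n V (a + a') * _ = _; rw [map_add, add_mul]; rfl)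
      (fun r a b => by show F.κ n V (r • a) * _ = _; rw [F.κ_smul, mul_assoc]; rfl)
      (fun a b b' => by show _ * F.κ n V (b + b') = _; rw [map_add, mul_add]; rfl)
      (fun r a b => by show _ * F.κ n V (r • b) = _; rw [F.κ_smul, mul_left_comm]; rfl))
    fun V W h a b => by
      show rr ((F.g n).preimage_mono h) (F.κ n W a * F.κ n W b) = F.κ n V _ * F.κ n V _
      rw [map_mul, F.κ_res, F.κ_res]

theorem exists_mulHom3 (n : ℕ) :
    ∃ φ : tens (tens E E) E ⟶ F.lev n,
      ∀ V a b c, φ.app V (shTm (shTm a b) c) = F.κ n V a * F.κ n V b * F.κ n V c :=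
  exists_hom3 (P := F.lev n) F.hE F.hE
    (fun V => LinearMap.mk₂ Γ(X, V)
      (fun a b =>
        { toFun := fun c => (show Γ(F.lev n, V) from F.κ n V a * F.κ n V b * F.κ n V c)
          map_add' := fun c c' => by show _ * F.κ n V (c + c') = _; rw [map_add, mul_add]; rfl
          map_smul' := fun r c => by show _ * F.κ n V (r • c) = _; rw [F.κ_smul, mul_left_comm]; rfl })
      (fun a a' b => LinearMap.ext fun c => by
        show F.κ n V (a + a') * _ * _ = _; rw [map_add, add_mul, add_mul]; rfl)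
      (fun r a b => LinearMap.ext fun c => by
        show F.κ n V (r • a) * _ * _ = _; rw [F.κ_smul, mul_assoc, mul_assoc, ← mul_assoc (F.κ n V a)]; rfl)
      (fun a b b' => LinearMap.ext fun c => by
        show _ * F.κ n V (b + b') * _ = _; rw [map_add, mul_add, add_mul]; rfl)
      (fun r a b => LinearMap.ext fun c => by
        show _ * F.κ n V (r • b) * _ = _; rw [F.κ_smul, mul_left_comm, mul_assoc]; rfl))
    fun V W h a b c => by
      show rr ((F.g n).preimage_mono h) (F.κ n W a * F.κ n W b * F.κ n W c) = F.κ n V _ * F.κ n V _ * F.κ n V _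
      rw [map_mul, map_mul, F.κ_res, F.κ_res, F.κ_res]

/-- The global forms of a formal algebra. -/
structure Forms where
  ε : ∀ V : X.Opens, Γ(E, V) →ₗ[Γ(X, V)] Γ(X, V)
  β : ∀ V : X.Opens, Γ(E, V) →ₗ[Γ(X, V)] Γ(E, V) →ₗ[Γ(X, V)] Γ(X, V)
  τ : ∀ V : X.Opens, Γ(E, V) →ₗ[Γ(X, V)] Γ(E, V) →ₗ[Γ(X, V)] Γ(E, V) →ₗ[Γ(X, V)] Γ(X, V)
  ε_res : ∀ {V W : X.Opens} (h : W ≤ V) a, rr h (ε V a) = ε W (res E h a)
  β_res : ∀ {V W : X.Opens} (h : W ≤ V) a b, rr h (β V a b) = β W (res E h a) (res E h b)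
  τ_res : ∀ {V W : X.Opens} (h : W ≤ V) a b c, rr h (τ V a b c) = τ W (res E h a) (res E h b) (res E h c)
  ε_spec : ∀ n {V : X.Opens} (hV : Framed E V) a, F.IsTr n hV.1 (F.κ n V a) (ε V a)
  β_spec : ∀ n {V : X.Opens} (hV : Framed E V) a b, F.IsTr n hV.1 (F.κ n V a * F.κ n V b) (β V a b)
  τ_spec : ∀ n {V : X.Opens} (hV : Framed E V) a b c,
    F.IsTr n hV.1 (F.κ n V a * F.κ n V b * F.κ n V c) (τ V a b c)

theorem exists_global {D : X.Modules} (hD : Lef.HomToFormalBijective 𝓙 D) (φ : ∀ n, D ⟶ F.lev n)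
    (hφ : ∀ n, φ (n + 1) ≫ F.step n = φ n) :
    ∃ Φ : D ⟶ Coh.structureModule X, ∀ n, Φ ≫ ClSub.toSubscheme (𝓙 ^ (n + 1)) = φ n ≫ F.T n :=
  hD.2 (fun n => φ n ≫ F.T n) fun n => by rw [Category.assoc, F.T_step, ← Category.assoc, hφ n]

/-- The Lefschetz condition gives the global forms. -/
theorem nonempty_forms (hLef : ∀ D : X.Modules, FlatMod.IsFinLocFree D → Lef.HomToFormalBijective 𝓙 D) :
    Nonempty (F.Forms) := by
  choose m₂ hm₂ using F.exists_mulHom2
  choose m₃ hm₃ using F.exists_mulHom3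
  have h1 : ∀ n, F.κHom (n + 1) ≫ F.step n = F.κHom n := fun n =>
    Scheme.Modules.hom_ext _ _ fun V => ConcreteCategory.hom_ext _ _ fun a =>
      (F.step_app n V (F.κ (n + 1) V a)).trans (F.κ_t n V a)
  have h2 : ∀ n, m₂ (n + 1) ≫ F.step n = m₂ n := fun n => hom2_ext fun V a b => by
    show (F.step n).app V ((m₂ (n + 1)).app V (shTm a b)) = _
    rw [hm₂ (n + 1) V a b, hm₂ n V a b]
    exact (F.step_app n V _).trans ((map_mul (F.tres n V) _ _).trans (by rw [F.κ_t, F.κ_t]))
  have h3 : ∀ n, m₃ (n + 1) ≫ F.step n = m₃ n := fun n => hom3_ext F.hE F.hE fun V a b c => by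
    show (F.step n).app V ((m₃ (n + 1)).app V (shTm (shTm a b) c)) = _
    rw [hm₃ (n + 1) V a b c, hm₃ n V a b c]
    exact (F.step_app n V _).trans
      ((map_mul (F.tres n V) _ _).trans (by rw [map_mul, F.κ_t, F.κ_t, F.κ_t]))
  obtain ⟨e₁, he₁⟩ := F.exists_global (hLef _ F.hE) F.κHom h1
  obtain ⟨e₂, he₂⟩ := F.exists_global (hLef _ (Groth.Agent.S1063.isFinLocFree_tens F.hE F.hE)) m₂ h2
  obtain ⟨e₃, he₃⟩ := F.exists_global (hLef _ (Groth.Agent.S1063.isFinLocFree_tens
    (Groth.Agent.S1063.isFinLocFree_tens F.hE F.hE) F.hE)) m₃ h3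
  refine ⟨{
    ε := fun V =>
      { toFun := fun a => (show Γ(X, V) from e₁.app V a)
        map_add' := fun a a' => map_add (e₁.app V).hom a a'
        map_smul' := fun r a => e₁.app_smul r a }
    β := fun V => LinearMap.mk₂ Γ(X, V) (fun a b => (show Γ(X, V) from e₂.app V (shTm a b)))
      (fun a a' b => (congrArg (e₂.app V) (shTm_add_left a a' b)).trans (map_add (e₂.app V).hom _ _))
      (fun r a b => (congrArg (e₂.app V) (shTm_smul_left r a b)).trans (e₂.app_smul r _))
      (fun a b b' => (congrArg (e₂.app V) (shTm_add_right a b b')).trans (map_add (e₂.app V).hom _ _))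
      (fun r a b => (congrArg (e₂.app V) (shTm_smul_right r a b)).trans (e₂.app_smul r _))
    τ := fun V => LinearMap.mk₂ Γ(X, V)
      (fun a b =>
        { toFun := fun c => (show Γ(X, V) from e₃.app V (tmul3 V a b c))
          map_add' := fun c c' => (congrArg (e₃.app V) (map_add (tmul3 V a b) c c')).trans (map_add (e₃.app V).hom _ _)
          map_smul' := fun r c => (congrArg (e₃.app V) (map_smul (tmul3 V a b) r c)).trans (e₃.app_smul r _) })
      (fun a a' b => LinearMap.ext fun c => (congrArg (e₃.app V)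
        (LinearMap.congr_fun ((tmul3 V).map_add₂ a a' b) c)).trans (map_add (e₃.app V).hom _ _))
      (fun r a b => LinearMap.ext fun c => (congrArg (e₃.app V)
        (LinearMap.congr_fun ((tmul3 V).map_smul₂ r a b) c)).trans (e₃.app_smul r _))
      (fun a b b' => LinearMap.ext fun c => (congrArg (e₃.app V)
        (LinearMap.congr_fun ((tmul3 V a).map_add b b') c)).trans (map_add (e₃.app V).hom _ _))
      (fun r a b => LinearMap.ext fun c => (congrArg (e₃.app V)
        (LinearMap.congr_fun ((tmul3 V a).map_smul r b) c)).trans (e₃.app_smul r _))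
    ε_res := fun {V W} h a => congr($(((Scheme.Modules.Hom.mapPresheaf e₁).naturality (homOfLE h).op).symm) a)
    β_res := fun {V W} h a b =>
      (congr($(((Scheme.Modules.Hom.mapPresheaf e₂).naturality (homOfLE h).op).symm) (shTm a b))).trans
        (congrArg (e₂.app W) (ProjFormLib.shTm_res h a b))
    τ_res := fun {V W} h a b c =>
      (congr($(((Scheme.Modules.Hom.mapPresheaf e₃).naturality (homOfLE h).op).symm) (tmul3 V a b c))).trans
        (congrArg (e₃.app W) ((ProjFormLib.shTm_res h _ c).trans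
          (congrArg (shTm · _) (ProjFormLib.shTm_res h a b))))
    ε_spec := fun n {V} hV a => (F.T_iff n hV _ _).1
      (congr($(congrArg (fun f : E ⟶ _ => Scheme.Modules.Hom.app f V) (he₁ n).symm) a))
    β_spec := fun n {V} hV a b => (F.T_iff n hV _ _).1
      ((congrArg ((F.T n).app V) (hm₂ n V a b).symm).trans
        (congr($(congrArg (fun f : tens E E ⟶ _ => Scheme.Modules.Hom.app f V) (he₂ n).symm) (shTm a b))))
    τ_spec := fun n {V} hV a b c => (F.T_iff n hV _ _).1
      ((congrArg ((F.T n).app V) (hm₃ n V a b c).symm).trans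
        (congr($(congrArg (fun f : tens (tens E E) E ⟶ _ => Scheme.Modules.Hom.app f V) (he₃ n).symm)
          (shTm (shTm a b) c)))) }⟩

end FAlg

end LeffEt

end
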