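import Groth.Agent.LeffEtLib.Restrict
import Groth.Agent.S0238
import Groth.Agent.FCohLib.FiniteBC
import Groth.Agent.LefAlgzLib.Pack
import Groth.Agent.CohCmpLib.PuSec
import Groth.Agent.LimHomLib.PuExt
import Groth.Prelude.Def_LefX

/-!
# The formal algebra of a finite étale cover of the closed subscheme
-/

set_option autoImplicit false
set_option linter.style.haveILetI false
set_option linter.unusedSectionVars false
set_option maxHeartbeats 800000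

universe u

open CategoryTheory CategoryTheory.Limits AlgebraicGeometry TopologicalSpace Opposite
open ProjFormLib (res IsFrame exists_frame)
open KFlatLib (puSec puSecLE)

noncomputable section

namespace LeffEt

variable {X : Scheme.{u}}

/-- Base change of the functions of a cover along a cartesian square. -/
theorem exists_trans {A B S S' : Scheme.{u}} {t : A ⟶ B} {p : A ⟶ S'} {q : B ⟶ S} {i : S' ⟶ S}
    [IsAffineHom q] (sq : IsPullback t p q i) :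
    ∃ u : (Scheme.Modules.pullback i).obj ((Scheme.Modules.pushforward q).obj (Coh.structureModule B)) ≅
        (Scheme.Modules.pushforward p).obj (Coh.structureModule A),
      ∀ (W : S.Opens) (x : Γ(B, q ⁻¹ᵁ W)) (e : p ⁻¹ᵁ (i ⁻¹ᵁ W) ≤ t ⁻¹ᵁ (q ⁻¹ᵁ W)),
        u.hom.app (i ⁻¹ᵁ W)
            (puSec i (show Γ((Scheme.Modules.pushforward q).obj (Coh.structureModule B), W) from x)) =
          t.appLE (q ⁻¹ᵁ W) (p ⁻¹ᵁ (i ⁻¹ᵁ W)) e x := by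
  haveI : Coh.IsQCoh (Coh.structureModule B) :=
    FinLFAnn.isQCoh_of_isFinLocFree (Groth.Agent.S1063.isFinLocFree_structureModule B)
  obtain ⟨v, hv⟩ := FCohLib.exists_bcIso q i t p (Coh.structureModule B) sq
  refine ⟨v ≪≫ (Scheme.Modules.pushforward p).mapIso (KFlatLib.pullUnitIso t), fun W x e => ?_⟩
  show (KFlatLib.pullUnitIso t).hom.app (p ⁻¹ᵁ (i ⁻¹ᵁ W)) (v.hom.app (i ⁻¹ᵁ W) _) = _
  refine (congrArg ((KFlatLib.pullUnitIso t).hom.app (p ⁻¹ᵁ (i ⁻¹ᵁ W))) (hv W x e)).trans ?_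
  refine (QCohLib.app_map (KFlatLib.pullUnitIso t).hom (homOfLE e) (puSec t _)).trans ?_
  have h := congr($(congrArg (fun f : Coh.structureModule B ⟶ _ => Scheme.Modules.Hom.app f (q ⁻¹ᵁ W))
    (FEtLefLib.unit_pullUnit t)) x)
  exact congrArg (rr (Z := A) e) h

theorem cmpIso_puSec {A B : Scheme.{u}} {a : A ⟶ B} {b : B ⟶ X} {c : A ⟶ X} (e : a ≫ b = c) (M : X.Modules)
    {U : X.Opens} (m : Γ(M, U)) (h : a ⁻¹ᵁ (b ⁻¹ᵁ U) ≤ c ⁻¹ᵁ U) :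
    ((LimHomLib.cmp e).hom.app M).app (a ⁻¹ᵁ (b ⁻¹ᵁ U)) (puSec a (puSec b m)) = puSecLE c M h m := by
  refine Eq.trans (congrArg (((LimHomLib.cmp e).hom.app M).app (a ⁻¹ᵁ (b ⁻¹ᵁ U))) ?_)
    (LimHomLib.cmp_puSecLE e M (le_refl (b ⁻¹ᵁ U)) (le_refl (a ⁻¹ᵁ (b ⁻¹ᵁ U))) h m)
  exact ((LimHomLib.puSecLE_rfl a _ le_rfl _).trans
    (congrArg (puSec a) (LimHomLib.puSecLE_rfl b M le_rfl m))).symm

theorem sq_val {Z : Scheme.{u}} {A B C D : Z.Modules} {f : A ⟶ B} {g : B ⟶ D} {f' : A ⟶ C} {g' : C ⟶ D}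
    (e : f ≫ g = f' ≫ g') (U : Z.Opens) (x : Γ(A, U)) {y : Γ(C, U)} (hy : f'.app U x = y) :
    g.app U (f.app U x) = g'.app U y := by
  subst hy
  exact congr($(congrArg (fun k => Scheme.Modules.Hom.app k U) e) x)

theorem cmp_sq_val {A B : Scheme.{u}} {a : A ⟶ B} {b : B ⟶ X} {c : A ⟶ X} {e : a ≫ b = c} {M : X.Modules}
    {N : B.Modules} {P : A.Modules} {α : KFlatLib.pb b M ⟶ N} {v : KFlatLib.pb a N ⟶ P}
    {β : KFlatLib.pb c M ⟶ P}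
    (hc : (Scheme.Modules.pullback a).map α ≫ v = (LimHomLib.cmp e).hom.app M ≫ β)
    {U : X.Opens} (m : Γ(M, U)) (h : a ⁻¹ᵁ (b ⁻¹ᵁ U) ≤ c ⁻¹ᵁ U) :
    v.app (a ⁻¹ᵁ (b ⁻¹ᵁ U)) (puSec a (α.app (b ⁻¹ᵁ U) (puSec b m))) =
      β.app (a ⁻¹ᵁ (b ⁻¹ᵁ U)) (puSecLE c M h m) := by
  rw [← KFlatLib.puSec_natural]
  exact sq_val hc _ _ (cmpIso_puSec e M m h)

variable (𝓘 : X.IdealSheafData)

theorem complTrans_eq (n : ℕ) : FSch.complTransIso 𝓘 n =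
    LimHomLib.cmp (Scheme.IdealSheafData.inclusion_subschemeι (FSch.pow_succ_le X 𝓘 n)) := by
  delta FSch.complTransIso FSch.completionAlong FSch.completionToX LimHomLib.cmp
  dsimp only

/-- The levels. -/
abbrev Lv (n : ℕ) : Scheme.{u} := (𝓘 ^ (n + 1)).subscheme

/-- The inclusions of levels into the scheme. -/
abbrev lι (n : ℕ) : Lv 𝓘 n ⟶ X := (𝓘 ^ (n + 1)).subschemeι

/-- The transition maps of levels. -/
abbrev li (n : ℕ) : Lv 𝓘 n ⟶ Lv 𝓘 (n + 1) := Scheme.IdealSheafData.inclusion (FSch.pow_succ_le X 𝓘 n)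

theorem li_lι (n : ℕ) : li 𝓘 n ≫ lι 𝓘 (n + 1) = lι 𝓘 n := Scheme.IdealSheafData.inclusion_subschemeι _

theorem range_lι (n : ℕ) : Set.range (lι 𝓘 n) = 𝓘.support := by
  rw [Scheme.IdealSheafData.range_subschemeι, Scheme.IdealSheafData.support_pow_succ]

instance (n : ℕ) : IsClosedImmersion (li 𝓘 n) := by
  haveI : IsClosedImmersion (li 𝓘 n ≫ lι 𝓘 (n + 1)) := by rw [li_lι]; infer_instance
  exact IsClosedImmersion.of_comp _ (lι 𝓘 (n + 1))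

instance (n : ℕ) : Surjective (li 𝓘 n) := ⟨fun y => by
  have hy : lι 𝓘 (n + 1) y ∈ Set.range (lι 𝓘 n) := by
    rw [range_lι, ← range_lι 𝓘 (n + 1)]
    exact ⟨y, rfl⟩
  obtain ⟨z, hz⟩ := hy
  refine ⟨z, (lι 𝓘 (n + 1)).isEmbedding.injective ?_⟩
  rw [← Scheme.Hom.comp_apply, li_lι, hz]⟩

/-- The comparison of the first level with the closed subscheme. -/
def base0 : Lv 𝓘 0 ⟶ 𝓘.subscheme :=
  Scheme.IdealSheafData.inclusion (show 𝓘 ≤ 𝓘 ^ (0 + 1) from (zero_add (1 : ℕ)).symm ▸ (pow_one 𝓘).ge)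

/-- The lifts of a cover to all levels. -/
structure Chain (R : FEt.Cat 𝓘.subscheme) where
  P : ∀ n, FEt.Cat (Lv 𝓘 n)
  t : ∀ n, (P n).left ⟶ (P (n + 1)).left
  sq : ∀ n, IsPullback (t n) (P n).hom (P (n + 1)).hom (li 𝓘 n)
  base : P 0 = (FEt.restrict (base0 𝓘)).obj R

theorem nonempty_chain (R : FEt.Cat 𝓘.subscheme) : Nonempty (Chain 𝓘 R) := by
  haveI : ∀ n, (FEt.restrict (li 𝓘 n)).IsEquivalence := fun n => Groth.Agent.S0238.result (li 𝓘 n)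
  let P : ∀ n, FEt.Cat (Lv 𝓘 n) := fun n =>
    Nat.rec (motive := fun n => FEt.Cat (Lv 𝓘 n)) ((FEt.restrict (base0 𝓘)).obj R)
      (fun n Q => (FEt.restrict (li 𝓘 n)).objPreimage Q) n
  let e : ∀ n, (FEt.restrict (li 𝓘 n)).obj (P (n + 1)) ≅ P n := fun n =>
    (FEt.restrict (li 𝓘 n)).objObjPreimageIso (P n)
  let l : ∀ n, (P n).left ≅ pullback (P (n + 1)).hom (li 𝓘 n) := fun n =>
    ((MorphismProperty.Over.forget FEt.prop ⊤ _ ⋙ CategoryTheory.Over.forget _).mapIso (e n)).symm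
  have hl : ∀ n, (l n).hom ≫ pullback.snd _ _ = (P n).hom := fun n => CategoryTheory.Over.w (e n).inv.hom
  exact ⟨{
    P := P
    t := fun n => (l n).hom ≫ pullback.fst _ _
    sq := fun n => IsPullback.of_iso_pullback
      ⟨by rw [Category.assoc, pullback.condition, ← Category.assoc, hl n]⟩ (l n) rfl (hl n)
    base := rfl }⟩

variable {𝓘} {R : FEt.Cat 𝓘.subscheme} (C : Chain 𝓘 R)

namespace Chain

/-- A level of the cover. -/
abbrev T (n : ℕ) : Scheme.{u} := (C.P n).left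

/-- The structure map of a level of the cover. -/
abbrev π (n : ℕ) : C.T n ⟶ Lv 𝓘 n := (C.P n).hom

instance (n : ℕ) : IsFinite (C.π n) := (C.P n).prop.1

instance (n : ℕ) : Etale (C.π n) := (C.P n).prop.2

/-- The functions of a level of the cover. -/
abbrev lev (n : ℕ) : (Lv 𝓘 n).Modules :=
  (Scheme.Modules.pushforward (C.π n)).obj (Coh.structureModule (C.T n))

/-- The system of functions of the cover. -/
def sys : FSch.ModSys (FSch.completionAlong X 𝓘) where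
  F n := C.lev n
  e n := (exists_trans (C.sq n)).choose

theorem levelwise : LefX.LevelwiseFinLocFree C.sys := fun n =>
  Groth.Agent.S1063.isFinLocFree_pf (C.π n) ⟨inferInstance, inferInstance, inferInstance⟩
    (Groth.Agent.S1063.isFinLocFree_structureModule _)

section

variable {G : X.Modules} (φ : FSch.complMod 𝓘 G ≅ C.sys)

/-- The comparison at a level. -/
def θ (n : ℕ) : KFlatLib.pb (lι 𝓘 n) G ≅ C.lev n where
  hom := φ.hom.app n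
  inv := φ.inv.app n
  hom_inv_id := congrArg (fun f => FSch.ModSys.Hom.app f n) φ.hom_inv_id
  inv_hom_id := congrArg (fun f => FSch.ModSys.Hom.app f n) φ.inv_hom_id

theorem bijective_θ (n : ℕ) (W : (Lv 𝓘 n).Opens) : Function.Bijective ((C.θ φ n).hom.app W) := by
  refine Function.bijective_iff_has_inverse.2 ⟨(C.θ φ n).inv.app W, fun x => ?_, fun x => ?_⟩
  · exact congr($(congrArg (fun f : KFlatLib.pb (lι 𝓘 n) G ⟶ _ => Scheme.Modules.Hom.app f W)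
      (C.θ φ n).hom_inv_id) x)
  · exact congr($(congrArg (fun f : C.lev n ⟶ _ => Scheme.Modules.Hom.app f W)
      (C.θ φ n).inv_hom_id) x)

/-- The values of sections on a level. -/
def κ (n : ℕ) (V : X.Opens) : Γ(G, V) →+ Γ((C.T n), ((C.π n) ≫ lι 𝓘 n) ⁻¹ᵁ V) :=
  AddMonoidHom.mk'
    (fun x => (show Γ((C.T n), (C.π n) ⁻¹ᵁ (lι 𝓘 n ⁻¹ᵁ V)) from
      (C.θ φ n).hom.app (lι 𝓘 n ⁻¹ᵁ V) (puSec (lι 𝓘 n) x)))
    fun x y => (congrArg ((C.θ φ n).hom.app (lι 𝓘 n ⁻¹ᵁ V))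
      (map_add (((Scheme.Modules.pullbackPushforwardAdjunction (lι 𝓘 n)).unit.app G).app V).hom x y)).trans
      (map_add ((C.θ φ n).hom.app (lι 𝓘 n ⁻¹ᵁ V)).hom _ _)

theorem κ_smul (n : ℕ) (V : X.Opens) (r : Γ(X, V)) (x : Γ(G, V)) :
    C.κ φ n V (r • x) = ((C.π n) ≫ lι 𝓘 n).app V r * C.κ φ n V x :=
  (congrArg ((C.θ φ n).hom.app (lι 𝓘 n ⁻¹ᵁ V)) (KFlatLib.puSec_smul (lι 𝓘 n) r x)).trans
    ((C.θ φ n).hom.app_smul _ _)

theorem κ_res (n : ℕ) {V W : X.Opens} (h : W ≤ V) (x : Γ(G, V)) :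
    rr (((C.π n) ≫ lι 𝓘 n).preimage_mono h) (C.κ φ n V x) = C.κ φ n W (res G h x) :=
  (app_res (C.θ φ n).hom ((lι 𝓘 n).preimage_mono h) (puSec (lι 𝓘 n) x)).trans
    (congrArg ((C.θ φ n).hom.app _) (ProjFormLib.puSec_res (lι 𝓘 n) G h x).symm)

theorem sys_e (n : ℕ) : C.sys.e n = (exists_trans (C.sq n)).choose := by
  delta sys
  dsimp only

theorem comm_eq (n : ℕ) :
    (Scheme.Modules.pullback (li 𝓘 n)).map (C.θ φ (n + 1)).hom ≫ (exists_trans (C.sq n)).choose.hom =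
      (LimHomLib.cmp (li_lι 𝓘 n)).hom.app G ≫ (C.θ φ n).hom := by
  have h1 : ∀ z : Scheme.Modules.pullback (lι 𝓘 (n + 1)) ⋙ Scheme.Modules.pullback (li 𝓘 n) ≅
      Scheme.Modules.pullback (lι 𝓘 n), FSch.complTransIso 𝓘 n = z →
      (Scheme.Modules.pullback (li 𝓘 n)).map (C.θ φ (n + 1)).hom ≫ (exists_trans (C.sq n)).choose.hom =
        z.hom.app G ≫ (C.θ φ n).hom := fun z hz => by
    subst hz
    rw [← C.sys_e n]
    exact φ.hom.comm n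
  exact h1 (LimHomLib.cmp (li_lι 𝓘 n)) (complTrans_eq 𝓘 n)

theorem κ_t (n : ℕ) (V : X.Opens) (x : Γ(G, V))
    (e : ((C.π n) ≫ lι 𝓘 n) ⁻¹ᵁ V ≤ C.t n ⁻¹ᵁ ((C.π (n + 1) ≫ lι 𝓘 (n + 1)) ⁻¹ᵁ V)) :
    (C.t n).appLE ((C.π (n + 1) ≫ lι 𝓘 (n + 1)) ⁻¹ᵁ V) (((C.π n) ≫ lι 𝓘 n) ⁻¹ᵁ V) e
      (C.κ φ (n + 1) V x) = C.κ φ n V x := by
  let W := lι 𝓘 (n + 1) ⁻¹ᵁ V
  have eW : li 𝓘 n ⁻¹ᵁ W = lι 𝓘 n ⁻¹ᵁ V :=
    (Scheme.Hom.comp_preimage (li 𝓘 n) (lι 𝓘 (n + 1)) V).symm.trans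
      (congrArg (fun f : Lv 𝓘 n ⟶ X => f ⁻¹ᵁ V) (li_lι 𝓘 n))
  have eP : (C.π n) ⁻¹ᵁ (li 𝓘 n ⁻¹ᵁ W) = ((C.π n) ≫ lι 𝓘 n) ⁻¹ᵁ V :=
    (congrArg (fun U : (Lv 𝓘 n).Opens => (C.π n) ⁻¹ᵁ U) eW).trans
      (Scheme.Hom.comp_preimage (C.π n) (lι 𝓘 n) V).symm
  have h1 : (C.t n).appLE (C.π (n + 1) ⁻¹ᵁ W) ((C.π n) ⁻¹ᵁ (li 𝓘 n ⁻¹ᵁ W)) (eP.le.trans e)
      (C.κ φ (n + 1) V x) = (C.θ φ n).hom.app (li 𝓘 n ⁻¹ᵁ W) (puSecLE (lι 𝓘 n) G eW.le x) :=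
    ((exists_trans (C.sq n)).choose_spec W (C.κ φ (n + 1) V x) (eP.le.trans e)).symm.trans
      (cmp_sq_val (a := li 𝓘 n) (b := lι 𝓘 (n + 1)) (c := lι 𝓘 n) (e := li_lι 𝓘 n) (M := G) (N := C.lev (n + 1))
        (P := C.lev n) (α := (C.θ φ (n + 1)).hom) (v := (exists_trans (C.sq n)).choose.hom)
        (β := (C.θ φ n).hom) (U := V) (C.comm_eq φ n) x eW.le)
  have h2 : rr (Z := C.T n) eP.le ((C.t n).appLE (C.π (n + 1) ⁻¹ᵁ W) (((C.π n) ≫ lι 𝓘 n) ⁻¹ᵁ V) e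
      (C.κ φ (n + 1) V x)) = (C.t n).appLE (C.π (n + 1) ⁻¹ᵁ W) ((C.π n) ⁻¹ᵁ (li 𝓘 n ⁻¹ᵁ W)) (eP.le.trans e)
      (C.κ φ (n + 1) V x) :=
    congr($((C.t n).appLE_map e (homOfLE eP.le).op) (C.κ φ (n + 1) V x))
  have h3 : rr (Z := C.T n) eP.le (C.κ φ n V x) =
      (C.θ φ n).hom.app (li 𝓘 n ⁻¹ᵁ W) (puSecLE (lι 𝓘 n) G eW.le x) :=
    app_res (C.θ φ n).hom eW.le (puSec (lι 𝓘 n) x)
  exact (Pre.bijective_rr eP).1 (h2.trans (h1.trans h3.symm))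

/-- The formal algebra of the cover, on the given module. -/
def pre : Pre 𝓘 G where
  R n := (C.T n)
  g n := (C.π n) ≫ lι 𝓘 n
  t := C.t
  ht n := by rw [← Category.assoc, (C.sq n).w, Category.assoc, li_lι]
  κ := C.κ φ
  κ_smul := C.κ_smul φ
  κ_res := C.κ_res φ
  κ_t n V x := C.κ_t φ n V x _
  κ_surj n {V} hV z := by
    obtain ⟨r, b, hb⟩ := hV.2
    obtain ⟨y, hy⟩ := (C.bijective_θ φ n (lι 𝓘 n ⁻¹ᵁ V)).2 z
    obtain ⟨c, hc⟩ := (bijective_linearCombination (hb.pull (lι 𝓘 n))).2 y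
    choose d hd using fun i => (𝓘 ^ (n + 1)).subschemeι_app_surjective ⟨V, hV.1⟩ (c i)
    refine ⟨∑ i, d i • b i, ?_⟩
    rw [← hy, ← hc]
    refine congrArg ((C.θ φ n).hom.app _) ?_
    rw [Fintype.linearCombination_apply]
    refine (map_sum (((Scheme.Modules.pullbackPushforwardAdjunction (lι 𝓘 n)).unit.app G).app V).hom _ _).trans ?_
    exact Finset.sum_congr rfl fun i _ => (KFlatLib.puSec_smul (lι 𝓘 n) (d i) (b i)).trans (by rw [← hd i])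
  κ_ker n {V} hV {r} {b} hb c := by
    have e : puSec (lι 𝓘 n) (∑ i, c i • b i) =
        Fintype.linearCombination Γ(Lv 𝓘 n, lι 𝓘 n ⁻¹ᵁ V) (fun i => puSec (lι 𝓘 n) (b i))
          fun i => (lι 𝓘 n).app V (c i) := by
      rw [Fintype.linearCombination_apply]
      refine (map_sum (((Scheme.Modules.pullbackPushforwardAdjunction (lι 𝓘 n)).unit.app G).app V).hom _ _).trans ?_
      exact Finset.sum_congr rfl fun i _ => KFlatLib.puSec_smul (lι 𝓘 n) (c i) (b i)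
    show (C.θ φ n).hom.app (lι 𝓘 n ⁻¹ᵁ V) (puSec (lι 𝓘 n) (∑ i, c i • b i)) = 0 ↔ _
    rw [e, map_eq_zero_iff ((C.θ φ n).hom.app (lι 𝓘 n ⁻¹ᵁ V)).hom (C.bijective_θ φ n _).1,
      map_eq_zero_iff _ (bijective_linearCombination (hb.pull (lι 𝓘 n))).1, funext_iff]
    refine forall_congr' fun i => ?_
    rw [← (𝓘 ^ (n + 1)).ker_subschemeι_app ⟨V, hV⟩]
    exact Iff.rfl
  etale0 {V} hV hI := by
    have hk := (𝓘 ^ (0 + 1)).ker_subschemeι_app ⟨V, hV.1⟩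
    have hbij : Function.Bijective (Ideal.Quotient.lift ((𝓘 ^ (0 + 1)).ideal ⟨V, hV.1⟩) ((lι 𝓘 0).app V).hom
        fun a ha => RingHom.mem_ker.1 (hk.ge ha)) :=
      ⟨RingHom.lift_injective_of_ker_le_ideal _ _ hk.le,
        Ideal.Quotient.lift_surjective_of_surjective _ _ ((𝓘 ^ (0 + 1)).subschemeι_app_surjective ⟨V, hV.1⟩)⟩
    have hWa : IsAffineOpen (lι 𝓘 0 ⁻¹ᵁ V) := hV.1.preimage (lι 𝓘 0)
    have het : ((C.π 0).app (lι 𝓘 0 ⁻¹ᵁ V)).hom.Etale := by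
      rw [Scheme.Hom.app_eq_appLE]
      exact HasRingHomProperty.appLE (P := @Etale) (C.π 0) inferInstance ⟨_, hWa⟩
        ⟨_, hWa.preimage (C.π 0)⟩ le_rfl
    rw [show Ideal.Quotient.lift _ (((C.π 0) ≫ lι 𝓘 0).app V).hom hI =
      ((C.π 0).app (lι 𝓘 0 ⁻¹ᵁ V)).hom.comp (Ideal.Quotient.lift _ ((lι 𝓘 0).app V).hom
        fun a ha => RingHom.mem_ker.1 (hk.ge ha)) from Ideal.Quotient.ringHom_ext (RingHom.ext fun a => rfl)]
    exact RingHom.Etale.stableUnderComposition _ _ (RingHom.Etale.of_bijective hbij) het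

theorem range_pre (n : ℕ) : Set.range ((C.pre φ).g n) ⊆ 𝓘.support := by
  rintro _ ⟨x, rfl⟩
  rw [← range_lι 𝓘 n]
  exact ⟨(C.π n) x, rfl⟩

end

end Chain

end LeffEt

end
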