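import Groth.Agent.LeffEtLib.Forms

/-!
# The multiplication of a formal algebra with perfect trace form
-/

set_option autoImplicit false
set_option linter.style.haveILetI false
set_option linter.unusedSectionVars false

universe u

open CategoryTheory CategoryTheory.Limits AlgebraicGeometry TopologicalSpace Opposite
open ProjFormLib (res IsFrame exists_frame)
open KFlatLib (tens shTm)

noncomputable section

namespace LeffEt

variable {X : Scheme.{u}} {𝓙 : X.IdealSheafData} {E : X.Modules}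

theorem app_res {M N : X.Modules} (φ : M ⟶ N) {V W : X.Opens} (h : W ≤ V) (x : Γ(M, V)) :
    res N h (φ.app V x) = φ.app W (res M h x) :=
  congr($(((Scheme.Modules.Hom.mapPresheaf φ).naturality (homOfLE h).op).symm) x)

theorem eq_of_gram {A M : Type u} [CommRing A] [AddCommGroup M] [Module A M] {r : ℕ} (b : Module.Basis (Fin r) A M)
    (β : M →ₗ[A] M →ₗ[A] A) (G : Matrix (Fin r) (Fin r) A) (hG : ∀ i j, G i j = β (b i) (b j))
    (hu : IsUnit G.det) {m m' : M} (h : ∀ i, β m (b i) = β m' (b i)) : m = m' := by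
  have key : ∀ x i, β x (b i) = Matrix.vecMul (⇑(b.repr x)) G i := fun x i => by
    conv_lhs => rw [← b.sum_repr x]
    rw [map_sum, LinearMap.sum_apply]
    exact Finset.sum_congr rfl fun j _ => by
      rw [map_smul, LinearMap.smul_apply, smul_eq_mul]
      exact congrArg (_ * ·) (hG j i).symm
  have e : Matrix.vecMul (⇑(b.repr m)) G = Matrix.vecMul (⇑(b.repr m')) G :=
    funext fun i => (key m i).symm.trans ((h i).trans (key m' i))
  have h2 := congrArg (fun v => Matrix.vecMul v G⁻¹) e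
  rw [Matrix.vecMul_vecMul, Matrix.vecMul_vecMul, Matrix.mul_nonsing_inv _ hu, Matrix.vecMul_one,
    Matrix.vecMul_one] at h2
  exact b.repr.injective (DFunLike.coe_injective h2)

namespace FAlg

variable (F : FAlg 𝓙 E) (Φ : F.Forms)

/-- The Gram matrix of a family of sections. -/
def gram {V : X.Opens} {r : ℕ} (b : Fin r → Γ(E, V)) : Matrix (Fin r) (Fin r) Γ(X, V) :=
  fun i j => Φ.β V (b i) (b j)

/-- An affine open with a frame of unit discriminant. -/
def PerfV (V : X.Opens) : Prop :=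
  IsAffineOpen V ∧ ∃ (r : ℕ) (b : Fin r → Γ(E, V)), IsFrame E b ∧ IsUnit (F.gram Φ b).det

/-- The discriminant is a unit near every point. -/
def Perfect : Prop := ∀ x : X, ∃ V, F.PerfV Φ V ∧ x ∈ V

variable {F Φ}

theorem PerfV.framed {V : X.Opens} (h : F.PerfV Φ V) : Framed E V :=
  ⟨h.1, h.2.choose, h.2.choose_spec.choose, h.2.choose_spec.choose_spec.1⟩

theorem gram_res {V W : X.Opens} (h : W ≤ V) {r : ℕ} (b : Fin r → Γ(E, V)) :
    F.gram Φ (fun i => res E h (b i)) = (rr h).mapMatrix (F.gram Φ b) :=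
  Matrix.ext fun i j => (Φ.β_res h (b i) (b j)).symm

theorem PerfV.mono {V W : X.Opens} (h : F.PerfV Φ V) (hW : IsAffineOpen W) (hWV : W ≤ V) : F.PerfV Φ W := by
  obtain ⟨-, r, b, hb, hu⟩ := h
  refine ⟨hW, r, _, hb.res hWV, ?_⟩
  rw [gram_res, ← RingHom.map_det]
  exact hu.map _

theorem Perfect.near (h : F.Perfect Φ) (U : X.Opens) (x : X) (hx : x ∈ U) :
    ∃ V, F.PerfV Φ V ∧ x ∈ V ∧ V ≤ U := by
  obtain ⟨V, hV, hxV⟩ := h x
  obtain ⟨W, hW, hxW, hWle⟩ := exists_isAffineOpen_mem_and_subset (x := x) (U := U ⊓ V) ⟨hx, hxV⟩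
  exact ⟨W, hV.mono hW fun y hy => (hWle hy).2, hxW, fun y hy => (hWle hy).1⟩

theorem β_sum {V : X.Opens} {r : ℕ} (b : Fin r → Γ(E, V)) (c : Fin r → Γ(X, V)) (i : Fin r) :
    Φ.β V (∑ j, c j • b j) (b i) = Matrix.vecMul c (F.gram Φ b) i := by
  simp only [map_sum, map_smul, LinearMap.sum_apply, LinearMap.smul_apply, smul_eq_mul, Matrix.vecMul, dotProduct,
    gram]

/-- The form is nondegenerate over an open with a frame of unit discriminant. -/
theorem eq_of_β {V : X.Opens} {r : ℕ} {b : Fin r → Γ(E, V)} (hb : IsFrame E b)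
    (hu : IsUnit (F.gram Φ b).det) {m m' : Γ(E, V)} (h : ∀ i, Φ.β V m (b i) = Φ.β V m' (b i)) : m = m' :=
  eq_of_gram (bas hb) (Φ.β V) (F.gram Φ b) (fun i j => by rw [bas_apply, bas_apply]; rfl) hu
    fun i => by rw [bas_apply]; exact h i

theorem bijective_β {V : X.Opens} (h : F.PerfV Φ V) : Function.Bijective (Φ.β V) := by
  classical
  obtain ⟨-, r, b, hb, hu⟩ := h
  refine ⟨fun m m' e => eq_of_β hb hu fun i => LinearMap.congr_fun e (b i), fun f => ?_⟩
  obtain ⟨c, hc⟩ := Matrix.vecMul_surjective_iff_isUnit.2 ((Matrix.isUnit_iff_isUnit_det _).2 hu) fun i => f (b i)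
  refine ⟨∑ j, c j • b j, (bas hb).ext fun i => ?_⟩
  rw [bas_apply, β_sum]
  exact congrFun hc i

/-- The vector dual to a linear form. -/
def dualVec {V : X.Opens} (h : F.PerfV Φ V) : (Γ(E, V) →ₗ[Γ(X, V)] Γ(X, V)) ≃ₗ[Γ(X, V)] Γ(E, V) :=
  (LinearEquiv.ofBijective _ (bijective_β h)).symm

theorem β_dualVec {V : X.Opens} (h : F.PerfV Φ V) (f : Γ(E, V) →ₗ[Γ(X, V)] Γ(X, V)) (d : Γ(E, V)) :
    Φ.β V (dualVec h f) d = f d :=
  LinearMap.congr_fun ((LinearEquiv.ofBijective _ (bijective_β h)).apply_symm_apply f) d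

variable (F) in
theorem lev_eq_of_near {n : ℕ} {V : X.Opens} {z z' : Γ(F.R n, F.g n ⁻¹ᵁ V)}
    (h : ∀ x ∈ V, ∃ (W : X.Opens) (hWV : W ≤ V), x ∈ W ∧
      rr ((F.g n).preimage_mono hWV) z = rr ((F.g n).preimage_mono hWV) z') : z = z' :=
  FEtLefLib.eq_of_near (F.lev n) h

/-- Sections congruent against the form modulo an ideal have equal images. -/
theorem κ_eq_of_isTr (n : ℕ) {V : X.Opens} {r : ℕ} {b : Fin r → Γ(E, V)} (hV : Framed E V) (hb : IsFrame E b)
    (hu : IsUnit (F.gram Φ b).det) (x : Γ(E, V)) (z : Γ(F.R n, F.g n ⁻¹ᵁ V))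
    (h : ∀ i, F.IsTr n hV.1 (z * F.κ n V (b i)) (Φ.β V x (b i))) : F.κ n V x = z := by
  classical
  obtain ⟨w, hw⟩ := F.κ_surj n hV (F.κ n V x - z)
  have hmem : ∀ i, Φ.β V w (b i) ∈ (𝓙 ^ (n + 1)).ideal ⟨V, hV.1⟩ := fun i => by
    have h1 := F.isTr_add n hV (Φ.β_spec n hV w (b i)) (h i)
    rw [← add_mul, hw, sub_add_cancel] at h1
    have := F.sub_mem_of_isTr n hV h1 (Φ.β_spec n hV x (b i))
    rwa [add_sub_cancel_right] at this
  have hw0 : F.κ n V w = 0 := by
    rw [← sum_bas hb w] at hmem ⊢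
    simp only [β_sum] at hmem
    refine (F.κ_ker n hV.1 hb _).2 fun i => ?_
    have hG := Matrix.mul_nonsing_inv _ hu
    have hi : (bas hb).repr w i = Matrix.vecMul (Matrix.vecMul (⇑((bas hb).repr w)) (F.gram Φ b))
        (F.gram Φ b)⁻¹ i := by rw [Matrix.vecMul_vecMul, hG, Matrix.vecMul_one]
    rw [hi]
    exact (Ideal.sum_mem _ fun j _ => Ideal.mul_mem_right _ _ (hmem j) :
      ∑ j, Matrix.vecMul (⇑((bas hb).repr w)) (F.gram Φ b) j * (F.gram Φ b)⁻¹ j i ∈ _)
  rw [hw0] at hw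
  exact sub_eq_zero.1 hw.symm

variable (F)

/-- A multiplication lifting the formal algebra. -/
structure Mult where
  mul : tens E E ⟶ E
  one : Γ(E, (⊤ : X.Opens))
  κ_mul : ∀ n (V : X.Opens) (a b : Γ(E, V)), F.κ n V (mul.app V (shTm a b)) = F.κ n V a * F.κ n V b
  κ_one : ∀ n (V : X.Opens), F.κ n V (res E le_top one) = 1

variable {F}

/-- Perfectness gives a multiplication lifting the formal algebra. -/
theorem nonempty_mult (hperf : F.Perfect Φ) : Nonempty F.Mult := by
  classical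
  obtain ⟨e₃, he₃⟩ := exists_hom3 (P := Coh.structureModule X) F.hE F.hE (fun V => Φ.τ V)
    fun V W h a b c => Φ.τ_res h a b c
  let f₃ : ∀ (V : X.Opens), Γ(tens E E, V) →ₗ[Γ(X, V)] Γ(E, V) →ₗ[Γ(X, V)] Γ(X, V) := fun V =>
    LinearMap.mk₂ Γ(X, V) (fun w d => (show Γ(X, V) from e₃.app V (shTm w d)))
      (fun w w' d => (congrArg (e₃.app V) (shTm_add_left w w' d)).trans (map_add (e₃.app V).hom _ _))
      (fun r w d => (congrArg (e₃.app V) (shTm_smul_left r w d)).trans (e₃.app_smul r _))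
      (fun w d d' => (congrArg (e₃.app V) (shTm_add_right w d d')).trans (map_add (e₃.app V).hom _ _))
      (fun r w d => (congrArg (e₃.app V) (shTm_smul_right r w d)).trans (e₃.app_smul r _))
  have hf₃ : ∀ {V W : X.Opens} (h : W ≤ V) w d, rr h (f₃ V w d) = f₃ W (res (tens E E) h w) (res E h d) :=
    fun {V W} h w d => (app_res e₃ h (shTm w d)).trans (congrArg (e₃.app W) (ProjFormLib.shTm_res h w d))
  obtain ⟨mul, hmul⟩ := FEtLefLib.exists_hom_of_basis (E := tens E E) (M := E) (G := {V | F.PerfV Φ V})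
    (fun U x hx => hperf.near U x hx) (fun V hV => (dualVec hV).toLinearMap.comp (f₃ V))
    fun V hV W hW x hxV hxW => by
      obtain ⟨T, hT, hxT, hTle⟩ := hperf.near (V ⊓ W) x ⟨hxV, hxW⟩
      have k : ∀ {U : X.Opens} (hU : F.PerfV Φ U) (e : T ≤ U) w,
          res E e (dualVec hU (f₃ U w)) = dualVec hT (f₃ T (res (tens E E) e w)) := fun {U} hU e w => by
        obtain ⟨-, r, b, hb, hu⟩ := id hU
        refine eq_of_β (hb.res e) (by rw [gram_res, ← RingHom.map_det]; exact hu.map _) fun i => ?_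
        rw [β_dualVec, ← Φ.β_res, β_dualVec, hf₃]
      exact ⟨T, hT, hTle.trans inf_le_left, hTle.trans inf_le_right, hxT, k hV _, k hW _⟩
  obtain ⟨u, hu'⟩ := FEtLefLib.exists_hom_of_basis (E := Coh.structureModule X) (M := E)
    (G := {V | F.PerfV Φ V}) (fun U x hx => hperf.near U x hx)
    (fun V hV => LinearMap.toSpanSingleton Γ(X, V) Γ(E, V) (dualVec hV (Φ.ε V)))
    fun V hV W hW x hxV hxW => by
      obtain ⟨T, hT, hxT, hTle⟩ := hperf.near (V ⊓ W) x ⟨hxV, hxW⟩
      have k : ∀ {U : X.Opens} (hU : F.PerfV Φ U) (e : T ≤ U) (a : Γ(X, U)),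
          res E e (a • dualVec hU (Φ.ε U)) = rr e a • dualVec hT (Φ.ε T) := fun {U} hU e a => by
        rw [res_smul]
        refine congrArg (_ • ·) ?_
        obtain ⟨-, r, b, hb, hu⟩ := id hU
        refine eq_of_β (hb.res e) (by rw [gram_res, ← RingHom.map_det]; exact hu.map _) fun i => ?_
        rw [β_dualVec, ← Φ.β_res, β_dualVec, Φ.ε_res]
      exact ⟨T, hT, hTle.trans inf_le_left, hTle.trans inf_le_right, hxT, k hV _, k hW _⟩
  refine ⟨⟨mul, u.app ⊤ (show Γ(Coh.structureModule X, (⊤ : X.Opens)) from (1 : Γ(X, ⊤))),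
    fun n V a b => ?_, fun n V => ?_⟩⟩
  · refine F.lev_eq_of_near fun x hx => ?_
    obtain ⟨W, hW, hxW, hWV⟩ := hperf.near V x hx
    refine ⟨W, hWV, hxW, ?_⟩
    rw [map_mul, F.κ_res n hWV, F.κ_res n hWV, F.κ_res n hWV, app_res mul hWV, ProjFormLib.shTm_res, hmul W hW]
    obtain ⟨-, r, c, hc, hu⟩ := id hW
    refine κ_eq_of_isTr n hW.framed hc hu _ _ fun i => ?_
    simp only [LinearMap.comp_apply, LinearEquiv.coe_coe, β_dualVec]
    show F.IsTr n _ _ (e₃.app W (shTm (shTm _ _) (c i)))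
    rw [he₃]
    exact Φ.τ_spec n hW.framed _ _ _
  · refine F.lev_eq_of_near fun x hx => ?_
    obtain ⟨W, hW, hxW, hWV⟩ := hperf.near V x hx
    refine ⟨W, hWV, hxW, ?_⟩
    rw [map_one, F.κ_res n hWV, res_res, app_res u]
    have h1 : res (Coh.structureModule X) (hWV.trans le_top)
        (show Γ(Coh.structureModule X, (⊤ : X.Opens)) from (1 : Γ(X, ⊤))) = (1 : Γ(X, W)) :=
      map_one (rr (hWV.trans le_top : W ≤ ⊤))
    rw [h1, hu' W hW]
    obtain ⟨-, r, c, hc, hu⟩ := id hW
    refine κ_eq_of_isTr n hW.framed hc hu _ _ fun i => ?_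
    rw [one_mul]
    show F.IsTr n _ _ (Φ.β W ((1 : Γ(X, W)) • _) (c i))
    rw [one_smul, β_dualVec]
    exact Φ.ε_spec n hW.framed _

/-- Morphisms equal on every level are equal. -/
theorem eq_of_levels (hLef : ∀ D : X.Modules, FlatMod.IsFinLocFree D → Lef.HomToFormalBijective 𝓙 D)
    (hperf : F.Perfect Φ) {D : X.Modules} (hD : FlatMod.IsFinLocFree D) {p q : D ⟶ E}
    (h : ∀ n (V : X.Opens) (x : Γ(D, V)), F.κ n V (p.app V x) = F.κ n V (q.app V x)) : p = q := by
  have mk : ∀ p : D ⟶ E, ∃ P : tens D E ⟶ Coh.structureModule X, ∀ V x e,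
      P.app V (shTm x e) = Φ.β V (p.app V x) e := fun p =>
    exists_hom2 (P := Coh.structureModule X)
      (fun V => LinearMap.mk₂ Γ(X, V) (fun x e => (show Γ(Coh.structureModule X, V) from Φ.β V (p.app V x) e))
        (fun x x' e => (congrArg (fun y => Φ.β V y e) (map_add (p.app V).hom x x')).trans
          ((Φ.β V).map_add₂ _ _ _))
        (fun r x e => (congrArg (fun y => Φ.β V y e) (p.app_smul r x)).trans ((Φ.β V).map_smul₂ _ _ _))
        (fun x e e' => (Φ.β V _).map_add e e') (fun r x e => (Φ.β V _).map_smul r e))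
      fun V W hVW x e => (Φ.β_res hVW (p.app W x) e).trans
        (congrArg (fun y => Φ.β V y _) (app_res p hVW x))
  obtain ⟨P, hP⟩ := mk p
  obtain ⟨Q, hQ⟩ := mk q
  have hPQ : P = Q := (hLef _ (Groth.Agent.S1063.isFinLocFree_tens hD F.hE)).1 P Q fun n => by
    refine hom2_ext fun V x e => ?_
    show (ClSub.toSubscheme _).app V (P.app V (shTm x e)) = (ClSub.toSubscheme _).app V (Q.app V (shTm x e))
    refine FEtLefLib.eq_of_near _ fun y hy => ?_
    obtain ⟨W, hW, hyW, hWV⟩ := exists_framed_near F.hE V y hy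
    refine ⟨W, hWV, hyW, ?_⟩
    rw [hP, hQ]
    refine (FEtLefLib.rm_red _ _ _).trans (Eq.trans ?_ (FEtLefLib.rm_red _ _ _).symm)
    show FEtLefLib.red _ W (rr hWV (Φ.β V _ _)) = FEtLefLib.red _ W (rr hWV (Φ.β V _ _))
    rw [Φ.β_res, Φ.β_res, app_res, app_res, ← (F.T_iff n hW _ _).2 (Φ.β_spec n hW _ _),
      ← (F.T_iff n hW _ _).2 (Φ.β_spec n hW _ _), h]
  refine FEtLefLib.hom_ext_basis (G := {V | F.PerfV Φ V}) (fun U x hx => hperf.near U x hx) fun V hV x => ?_
  exact (bijective_β hV).1 (LinearMap.ext fun e => by rw [← hP, ← hQ, hPQ])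

namespace Mult

variable (M : F.Mult)

/-- The product of sections. -/
def m (V : X.Opens) : Γ(E, V) →ₗ[Γ(X, V)] Γ(E, V) →ₗ[Γ(X, V)] Γ(E, V) :=
  LinearMap.mk₂ Γ(X, V) (fun a b => M.mul.app V (shTm a b))
    (fun a a' b => (congrArg (M.mul.app V) (shTm_add_left a a' b)).trans (map_add (M.mul.app V).hom _ _))
    (fun r a b => (congrArg (M.mul.app V) (shTm_smul_left r a b)).trans (M.mul.app_smul r _))
    (fun a b b' => (congrArg (M.mul.app V) (shTm_add_right a b b')).trans (map_add (M.mul.app V).hom _ _))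
    (fun r a b => (congrArg (M.mul.app V) (shTm_smul_right r a b)).trans (M.mul.app_smul r _))

theorem κ_m (n : ℕ) (V : X.Opens) (a b : Γ(E, V)) : F.κ n V (M.m V a b) = F.κ n V a * F.κ n V b :=
  M.κ_mul n V a b

theorem res_m {V W : X.Opens} (h : W ≤ V) (a b : Γ(E, V)) :
    res E h (M.m V a b) = M.m W (res E h a) (res E h b) :=
  (app_res M.mul h (shTm a b)).trans (congrArg (M.mul.app W) (ProjFormLib.shTm_res h a b))

variable (hLef : ∀ D : X.Modules, FlatMod.IsFinLocFree D → Lef.HomToFormalBijective 𝓙 D)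
  (hperf : F.Perfect Φ)

include hLef hperf in
theorem m_comm (V : X.Opens) (a b : Γ(E, V)) : M.m V a b = M.m V b a := by
  obtain ⟨q, hq⟩ := exists_hom2 (A := E) (B := E) (P := E) (fun V => (M.m V).flip) fun V W h a b => M.res_m h b a
  have e : M.mul = q := eq_of_levels hLef hperf (Groth.Agent.S1063.isFinLocFree_tens F.hE F.hE) fun n U w => ?_
  · exact (congr($(congrArg (fun f : tens E E ⟶ E => Scheme.Modules.Hom.app f V) e) (shTm a b))).trans (hq V a b)
  · have he : M.mul ≫ F.κHom n = q ≫ F.κHom n := hom2_ext fun U a b => by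
      show F.κ n U (M.mul.app U (shTm a b)) = F.κ n U (q.app U (shTm a b))
      rw [hq, M.κ_mul, LinearMap.flip_apply, M.κ_m, mul_comm]
    exact congr($(congrArg (fun f : tens E E ⟶ F.lev n => Scheme.Modules.Hom.app f U) he) w)

include hLef hperf in
theorem m_assoc (V : X.Opens) (a b c : Γ(E, V)) : M.m V (M.m V a b) c = M.m V a (M.m V b c) := by
  obtain ⟨p, hp⟩ := exists_hom3 (A := E) (B := E) (C := E) (P := E) F.hE F.hE
    (fun V => LinearMap.mk₂ Γ(X, V) (fun a b => M.m V (M.m V a b))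
      (fun a a' b => by simp) (fun r a b => by simp) (fun a b b' => by simp) (fun r a b => by simp))
    fun V W h a b c => by
      show res E h (M.m W (M.m W a b) c) = M.m V (M.m V (res E h a) (res E h b)) (res E h c)
      rw [M.res_m, M.res_m]
  obtain ⟨q, hq⟩ := exists_hom3 (A := E) (B := E) (C := E) (P := E) F.hE F.hE
    (fun V => LinearMap.mk₂ Γ(X, V) (fun a b => (M.m V a).comp (M.m V b))
      (fun a a' b => LinearMap.ext fun c => by simp) (fun r a b => LinearMap.ext fun c => by simp)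
      (fun a b b' => LinearMap.ext fun c => by simp) (fun r a b => LinearMap.ext fun c => by simp))
    fun V W h a b c => by
      show res E h (M.m W a (M.m W b c)) = M.m V (res E h a) (M.m V (res E h b) (res E h c))
      rw [M.res_m, M.res_m]
  have e : p = q := eq_of_levels hLef hperf (Groth.Agent.S1063.isFinLocFree_tens
    (Groth.Agent.S1063.isFinLocFree_tens F.hE F.hE) F.hE) fun n U w => ?_
  · exact (hp V a b c).symm.trans
      ((congr($(congrArg (fun f : tens (tens E E) E ⟶ E => Scheme.Modules.Hom.app f V) e)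
        (shTm (shTm a b) c))).trans (hq V a b c))
  · have he : p ≫ F.κHom n = q ≫ F.κHom n := hom3_ext F.hE F.hE fun U a b c => by
      show F.κ n U (p.app U (shTm (shTm a b) c)) = F.κ n U (q.app U (shTm (shTm a b) c))
      rw [hp, hq]
      show F.κ n U (M.m U (M.m U a b) c) = F.κ n U (M.m U a (M.m U b c))
      rw [M.κ_m, M.κ_m, M.κ_m, M.κ_m, mul_assoc]
    exact congr($(congrArg (fun f : tens (tens E E) E ⟶ F.lev n => Scheme.Modules.Hom.app f U) he) w)

/-- Multiplication by the unit. -/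
def mulOne : E ⟶ E :=
  ⟨PresheafOfModules.homMk
    { app := fun U => AddCommGrpCat.ofHom (M.m U.unop (res E le_top M.one)).toAddMonoidHom
      naturality := fun U V i => by
        ext a
        exact ((M.res_m i.unop.le _ a).trans
          (congrArg (fun y => M.m V.unop y _) (res_res le_top i.unop.le M.one))).symm }
    (fun U r a => map_smul (M.m U.unop (res E le_top M.one)) (show Γ(X, U.unop) from r) a)⟩

include hLef hperf in
theorem one_m (V : X.Opens) (a : Γ(E, V)) : M.m V (res E le_top M.one) a = a := by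
  have e : M.mulOne = 𝟙 E := eq_of_levels hLef hperf F.hE fun n U x => by
    show F.κ n U (M.m U (res E le_top M.one) x) = F.κ n U x
    rw [M.κ_m, M.κ_one, one_mul]
  exact congr($(congrArg (fun f : E ⟶ E => Scheme.Modules.Hom.app f V) e) a)

end Mult

end FAlg

end LeffEt

end
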