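import Groth.Agent.LeffEtLib.Scheme
import Groth.Agent.ChevLib.Basic

/-!
# The reduction of the algebraised scheme is the given cover
-/

set_option autoImplicit false
set_option linter.style.haveILetI false
set_option linter.unusedSectionVars false
set_option maxHeartbeats 400000

universe u

open CategoryTheory CategoryTheory.Limits AlgebraicGeometry TopologicalSpace Opposite
open ProjFormLib (res IsFrame exists_frame)

noncomputable section

namespace LeffEt

theorem isClosedImmersion_of_app {Z R : Scheme.{u}} (h : R ⟶ Z) [IsAffineHom h] {ι : Type*} (U : ι → Z.Opens)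
    (hU : ∀ i, IsAffineOpen (U i)) (hsup : ⨆ i, U i = ⊤) (hs : ∀ i, Function.Surjective (h.app (U i))) :
    IsClosedImmersion h := by
  refine IsZariskiLocalAtTarget.of_iSup_eq_top (P := @IsClosedImmersion) U hsup fun W => ?_
  haveI : IsAffine (U W : Z.Opens) := hU W
  haveI : IsAffine (h ⁻¹ᵁ U W : R.Opens) := (hU W).preimage h
  refine IsClosedImmersion.of_surjective_of_isAffine _ ?_
  rw [morphismRestrict_appTop]
  have h4 : Function.Surjective (h.app ((U W).ι ''ᵁ ⊤)) := by
    rw [Scheme.Opens.ι_image_top]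
    exact hs W
  intro z
  obtain ⟨z₁, hz₁⟩ := (ConcreteCategory.bijective_of_isIso
    (R.presheaf.map (eqToHom (image_morphismRestrict_preimage h (U W) ⊤)).op)).2 z
  obtain ⟨a', ha'⟩ := h4 z₁
  exact ⟨a', (congrArg _ ha').trans hz₁⟩

theorem isPullback_of_ker_eq {Z X R : Scheme.{u}} (π : Z ⟶ X) (K : X.IdealSheafData) (h : R ⟶ Z)
    [IsClosedImmersion h] (r : R ⟶ K.subscheme) (hr : r ≫ K.subschemeι = h ≫ π)
    (hker : h.ker = K.comap π) : IsPullback h r π K.subschemeι := by
  have e : (pullback.fst π K.subschemeι).ker = h.ker := hker.symm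
  let L := IsClosedImmersion.lift (pullback.fst π K.subschemeι) h e.le
  haveI : IsIso L := IsClosedImmersion.isIso_lift _ _ e
  have h1 : L ≫ pullback.fst π K.subschemeι = h := IsClosedImmersion.lift_fac _ _ _
  have h2 : L ≫ pullback.snd π K.subschemeι = r := by
    rw [← cancel_mono K.subschemeι, Category.assoc, ← pullback.condition, ← Category.assoc, h1, hr]
  exact IsPullback.of_iso_pullback ⟨hr.symm⟩ (asIso L) h1 h2

/-- A cartesian square from sections over affine opens. -/
theorem isPullback_of_sections {Z X R : Scheme.{u}} (π : Z ⟶ X) [IsAffineHom π] {g : R ⟶ X} [IsAffineHom g]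
    (h : R ⟶ Z) (hg : h ≫ π = g) (K : X.IdealSheafData) (r : R ⟶ K.subscheme) (hr : r ≫ K.subschemeι = g)
    (G : Set X.Opens) (hG : ∀ W ∈ G, IsAffineOpen W) (hcov : ∀ x : X, ∃ W ∈ G, x ∈ W)
    (hs : ∀ W ∈ G, Function.Surjective (h.appLE (π ⁻¹ᵁ W) (g ⁻¹ᵁ W) (CycBdlLib.preimage_le hg W)))
    (hk : ∀ W (hW : W ∈ G), RingHom.ker (h.appLE (π ⁻¹ᵁ W) (g ⁻¹ᵁ W) (CycBdlLib.preimage_le hg W)).hom =
      (K.ideal ⟨W, hG W hW⟩).map (π.app W).hom) :
    IsPullback h r π K.subschemeι := by
  subst hg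
  haveI : IsAffineHom h := IsAffineHom.of_comp h π
  have hsup : ⨆ W : G, π ⁻¹ᵁ W.1 = ⊤ := eq_top_iff.2 fun z _ => by
    obtain ⟨W, hW, hz⟩ := hcov (π z)
    exact Opens.mem_iSup.2 ⟨⟨W, hW⟩, hz⟩
  haveI : IsClosedImmersion h := isClosedImmersion_of_app h (fun W : G => π ⁻¹ᵁ W.1)
    (fun W => (hG W.1 W.2).preimage π) hsup fun W => by
      rw [Scheme.Hom.app_eq_appLE]
      exact hs W.1 W.2
  refine isPullback_of_ker_eq π K h r hr (Scheme.IdealSheafData.ext_of_iSup_eq_top
    (U := fun W : G => ⟨π ⁻¹ᵁ W.1, (hG W.1 W.2).preimage π⟩) hsup fun W => ?_)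
  rw [Scheme.Hom.ker_apply, ChevLib.ideal_comap_of_isAffineHom K π ⟨W.1, hG W.1 W.2⟩, Scheme.Hom.app_eq_appLE]
  exact hk W.1 W.2

variable {X : Scheme.{u}} {𝓙 : X.IdealSheafData} {E : X.Modules}

namespace FAlg

variable {F : FAlg 𝓙 E} {M : F.Mult}

/-- The algebra map to the functions of a level. -/
def levMap (hL : M.Laws) [QuasiCompact (F.g 0)] [QuasiSeparated (F.g 0)] :
    Mult.alg hL ⟶ RelSpec.QCAlg.directImage (F.g 0) where
  hom :=
    { app := fun U => CommRingCat.ofHom
        { toFun := fun a => F.κ 0 U.unop (Mult.ofSec hL a)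
          map_one' := M.κ_one 0 U.unop
          map_mul' := fun a b => M.κ_m 0 U.unop a b
          map_zero' := map_zero _
          map_add' := fun a b => map_add _ a b }
      naturality := fun U V i => CommRingCat.hom_ext (RingHom.ext fun a =>
        (F.κ_res 0 i.unop.le (Mult.ofSec hL a)).symm) }
  comm := by
    refine NatTrans.ext (funext fun U => CommRingCat.hom_ext (RingHom.ext fun r => ?_))
    show F.κ 0 U.unop (Mult.ofSec hL (algebraMap Γ(X, U.unop) (Mult.Sec hL U.unop) r)) = (F.g 0).app U.unop r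
    rw [Mult.algebraMap_eq]
    refine (F.κ_smul 0 U.unop r (res E le_top M.one)).trans ?_
    rw [M.κ_one]
    exact mul_one _

/-- The given cover is the restriction of the algebraised one. -/
theorem exists_isPullback (hL : M.Laws) [IsFinite (F.g 0)] (r : F.R 0 ⟶ (𝓙 ^ (0 + 1)).subscheme)
    (hr : r ≫ (𝓙 ^ (0 + 1)).subschemeι = F.g 0) :
    ∃ h : F.R 0 ⟶ (Mult.alg hL).spec, IsPullback h r (Mult.alg hL).π (𝓙 ^ (0 + 1)).subschemeι := by
  obtain ⟨h, ⟨hg, e⟩, -⟩ := CycBdlLib.pts (Mult.alg hL) (F.g 0) (levMap hL)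
  refine ⟨h, isPullback_of_sections _ h hg _ r hr {W | Framed E W} (fun W hW => hW.1)
    (fun x => (exists_framed_near F.hE ⊤ x trivial).imp fun W hW => ⟨hW.1, hW.2.1⟩) (fun W hW => ?_)
    fun W hW => ?_⟩
  all_goals
    replace hW : Framed E W := hW
    let φ : Mult.Sec hL W →+* Γ((Mult.alg hL).spec, (Mult.alg hL).π ⁻¹ᵁ W) :=
      ((CycBdlLib.toF (Mult.alg hL)).app (op W)).hom
    have key : ∀ a : Mult.Sec hL W,
        h.appLE ((Mult.alg hL).π ⁻¹ᵁ W) (F.g 0 ⁻¹ᵁ W) (CycBdlLib.preimage_le hg W)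
          (φ a) = F.κ 0 W (Mult.ofSec hL a) := fun a =>
      (CycBdlLib.toF_algHom_app (Mult.alg hL) (F.g 0) h hg W a).symm.trans
        (congr($(NatTrans.congr_app e (op W)) a))
    have hbij : Function.Bijective φ := by
      haveI := CycBdlLib.isIso_gammaMap (Mult.alg hL)
      haveI : IsIso ((CycBdlLib.toF (Mult.alg hL)).app (op W)) := by
        unfold CycBdlLib.toF
        exact NatIso.isIso_app_of_isIso _ _
      exact ConcreteCategory.bijective_of_isIso ((CycBdlLib.toF (Mult.alg hL)).app (op W))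
  · intro z
    obtain ⟨x, hx⟩ := F.κ_surj 0 hW z
    exact ⟨_, (key (Mult.toSec hL x)).trans hx⟩
  · have hstr : ((Mult.alg hL).π.app W).hom = φ.comp (algebraMap Γ(X, W) (Mult.Sec hL W)) :=
      (congrArg CommRingCat.Hom.hom (NatTrans.congr_app (CycBdlLib.str_toF (Mult.alg hL)) (op W))).symm
    obtain ⟨n, b, hb⟩ := id hW.2
    rw [hstr]
    apply le_antisymm
    · intro z hz
      obtain ⟨a, rfl⟩ := hbij.2 z
      have ha : F.κ 0 W (Mult.ofSec hL a) = 0 := (key a).symm.trans hz
      rw [← sum_bas hb (Mult.ofSec hL a)] at ha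
      have hc := (F.κ_ker 0 hW.1 hb _).1 ha
      have ha' : a = ∑ i, algebraMap Γ(X, W) (Mult.Sec hL W) ((bas hb).repr (Mult.ofSec hL a) i) *
          Mult.toSec hL (b i) := by
        simp only [← Algebra.smul_def]
        exact (sum_bas hb (Mult.ofSec hL a)).symm
      refine Eq.subst (motive := fun y => φ y ∈ _) ha'.symm ?_
      rw [map_sum]
      refine Ideal.sum_mem _ fun i _ => ?_
      rw [map_mul]
      exact Ideal.mul_mem_right _ _ (Ideal.mem_map_of_mem (φ.comp (algebraMap Γ(X, W) (Mult.Sec hL W))) (hc i))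
    · rw [Ideal.map_le_iff_le_comap]
      intro a ha
      show h.appLE _ _ _ (φ (algebraMap Γ(X, W) (Mult.Sec hL W) a)) = 0
      rw [key, Mult.algebraMap_eq]
      exact (F.κ_smul 0 W a (res E le_top M.one)).trans (by rw [F.app_mem 0 hW ha, zero_mul])

end FAlg

end LeffEt

end
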