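import Groth.Agent.LeffEtLib.Pure
import Groth.Agent.VDimLib.PurePair
import Groth.Agent.S0239

/-!
# Punctured spectra of complete local rings and of their quotients
-/

set_option autoImplicit false
set_option linter.style.haveILetI false
set_option maxHeartbeats 800000

universe u

open CategoryTheory CategoryTheory.Limits AlgebraicGeometry TopologicalSpace Opposite

noncomputable section

namespace LeffEt

/-- The Lefschetz condition gives full faithfulness from the whole scheme. -/
theorem full_faithful_of_lefCond {X : Scheme.{u}} [IsLocallyNoetherian X] {𝓘 : X.IdealSheafData}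
    (h : Lef.LefCond X 𝓘) : (FEt.restrict 𝓘.subschemeι).Full ∧ (FEt.restrict 𝓘.subschemeι).Faithful := by
  have htop : (𝓘.support : Set X) ⊆ ((⊤ : X.Opens) : Set X) := fun _ _ => trivial
  let i := IsOpenImmersion.lift (⊤ : X.Opens).ι 𝓘.subschemeι (by
    rw [Scheme.Opens.range_ι]; exact Set.subset_univ _)
  have hi : i ≫ (⊤ : X.Opens).ι = 𝓘.subschemeι := IsOpenImmersion.lift_fac _ _ _
  have hsq := isPullback_lift (⊤ : X.Opens).ι i hi
  haveI : IsClosedImmersion i := MorphismProperty.of_isPullback hsq.flip inferInstance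
  have hk : i.ker = 𝓘.comap (⊤ : X.Opens).ι := by
    rw [← hsq.isoPullback_hom_fst, Scheme.Hom.ker_comp_of_isIso, Scheme.IdealSheafData.ker_fst_of_isClosedImmersion,
      Scheme.IdealSheafData.ker_subschemeι]
  have hk' : (𝓘.comap (⊤ : X.Opens).ι).subschemeι.ker = i.ker := by rw [Scheme.IdealSheafData.ker_subschemeι, hk]
  let w := IsClosedImmersion.lift (𝓘.comap (⊤ : X.Opens).ι).subschemeι i hk'.le
  haveI : IsIso w := IsClosedImmersion.isIso_lift _ _ hk'
  have hw : w ≫ (𝓘.comap (⊤ : X.Opens).ι).subschemeι = i := IsClosedImmersion.lift_fac _ _ _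
  haveI := isEquivalence_open (⊤ : X.Opens) fun x hx => absurd trivial hx
  haveI : (FEt.restrict w).IsEquivalence := Groth.Agent.S0238.result w
  obtain ⟨hfull, hfaith⟩ := Groth.Agent.S2947.result X 𝓘 h ⊤ htop
  let e : FEt.restrict (⊤ : X.Opens).ι ⋙ FEt.restrict (𝓘.comap (⊤ : X.Opens).ι).subschemeι ⋙ FEt.restrict w ≅
      FEt.restrict 𝓘.subschemeι :=
    Functor.isoWhiskerLeft _ (restrictComp w _ i hw.symm).symm ≪≫ (restrictComp i _ _ hi.symm).symm
  haveI := hfull
  haveI := hfaith
  exact ⟨Functor.Full.of_iso e, Functor.Faithful.of_iso e⟩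

/-- A pure pair gives an equivalence of covers on the whole scheme. -/
theorem isEquivalence_of_pair {X : Scheme.{u}} {U : X.Opens} (h : SGA2.IsPurePair X U) :
    (FEt.restrict U.ι).IsEquivalence := by
  let e : (U : Scheme.{u}) ≅ ((⊤ ⊓ U : X.Opens) : Scheme.{u}) := X.isoOfEq (top_inf_eq U).symm
  haveI := Groth.Agent.PurePair.restrict_isEquivalence_of_iso _ (e.hom ≫ X.homOfLE inf_le_left) e rfl (h ⊤)
  haveI := Groth.Agent.PurePair.restrict_iso_isEquivalence X.topIso
  let c := restrictComp (e.hom ≫ X.homOfLE (inf_le_left : ⊤ ⊓ U ≤ ⊤)) X.topIso.hom U.ι (by simp [e])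
  exact Functor.isEquivalence_of_iso c.symm

/-- An equivalence composed of two functors, the second fully faithful. -/
theorem isEquivalence_of_comp_fullFaithful {C D E : Type*} [Category C] [Category D] [Category E] (F : C ⥤ D)
    (H : D ⥤ E) [H.Full] [H.Faithful] [(F ⋙ H).IsEquivalence] : F.IsEquivalence :=
  { full := Functor.Full.of_comp_faithful F H
    faithful := Functor.Faithful.of_comp F H
    essSurj := ⟨fun d => ⟨(F ⋙ H).objPreimage (H.obj d),
      ⟨H.preimageIso ((F ⋙ H).objObjPreimageIso (H.obj d))⟩⟩⟩ }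

variable {A : Type u} [CommRing A] [IsLocalRing A] (I : Ideal A) [IsLocalRing (A ⧸ I)]

/-- The closed subscheme of the punctured spectrum cut out by the ideal. -/
abbrev punctIdeal : (FEt.puncturedSpec A : Scheme.{u}).IdealSheafData :=
  (Spec.map (CommRingCat.ofHom (Ideal.Quotient.mk I))).ker.comap (FEt.puncturedSpec A).ι

theorem mem_punct_iff (x : Spec (CommRingCat.of (A ⧸ I))) :
    Spec.map (CommRingCat.ofHom (Ideal.Quotient.mk I)) x ∈ FEt.puncturedSpec A ↔
      x ∈ FEt.puncturedSpec (A ⧸ I) := by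
  haveI : IsLocalHom (Ideal.Quotient.mk I) := IsLocalHom.of_surjective _ Ideal.Quotient.mk_surjective
  show PrimeSpectrum.comap (Ideal.Quotient.mk I) x ≠ IsLocalRing.closedPoint A ↔ x ≠ IsLocalRing.closedPoint (A ⧸ I)
  rw [← IsLocalRing.comap_closedPoint (Ideal.Quotient.mk I)]
  exact (PrimeSpectrum.comap_injective_of_surjective _ Ideal.Quotient.mk_surjective).ne_iff

/-- The punctured spectrum of the quotient is the closed subscheme of the punctured spectrum. -/
theorem exists_punct_iso :
    ∃ (e : (FEt.puncturedSpec (A ⧸ I) : Scheme.{u}) ≅ (punctIdeal I).subscheme),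
      e.hom ≫ (punctIdeal I).subschemeι ≫ (FEt.puncturedSpec A).ι =
        (FEt.puncturedSpec (A ⧸ I)).ι ≫ Spec.map (CommRingCat.ofHom (Ideal.Quotient.mk I)) := by
  let p := Spec.map (CommRingCat.ofHom (Ideal.Quotient.mk I))
  haveI : IsClosedImmersion p := IsClosedImmersion.spec_of_surjective _ Ideal.Quotient.mk_surjective
  let U := FEt.puncturedSpec A
  let q := (FEt.puncturedSpec (A ⧸ I)).ι
  let l := IsOpenImmersion.lift U.ι (q ≫ p) (by
    rintro _ ⟨x, rfl⟩
    rw [Scheme.Opens.range_ι]
    exact (mem_punct_iff I _).2 x.2)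
  have hl : l ≫ U.ι = q ≫ p := IsOpenImmersion.lift_fac _ _ _
  have hsq : IsPullback l q U.ι p :=
    ⟨⟨hl⟩, ⟨PullbackCone.IsLimit.mk _
      (fun s => IsOpenImmersion.lift q s.snd (by
        rintro _ ⟨x, rfl⟩
        rw [Scheme.Opens.range_ι]
        refine (mem_punct_iff I _).1 ?_
        rw [← Scheme.Hom.comp_apply, ← s.condition, Scheme.Hom.comp_apply]
        exact (s.fst x).2))
      (fun s => by
        rw [← cancel_mono U.ι, Category.assoc, hl]
        exact (Category.assoc _ _ _).symm.trans ((congrArg (· ≫ p) (IsOpenImmersion.lift_fac q s.snd _)).trans s.condition.symm))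
      (fun s => IsOpenImmersion.lift_fac _ _ _)
      (fun s m _ h2 => (cancel_mono q).1 (h2.trans (IsOpenImmersion.lift_fac q s.snd _).symm))⟩⟩
  haveI : IsClosedImmersion l := MorphismProperty.of_isPullback hsq.flip inferInstance
  have hk : l.ker = punctIdeal I := by
    rw [← hsq.isoPullback_hom_fst, Scheme.Hom.ker_comp_of_isIso, Scheme.IdealSheafData.ker_fst_of_isClosedImmersion]
  have hk' : (punctIdeal I).subschemeι.ker = l.ker := by rw [Scheme.IdealSheafData.ker_subschemeι, hk]
  let w := IsClosedImmersion.lift (punctIdeal I).subschemeι l hk'.le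
  haveI : IsIso w := IsClosedImmersion.isIso_lift _ _ hk'
  refine ⟨asIso w, ?_⟩
  show w ≫ (punctIdeal I).subschemeι ≫ U.ι = q ≫ p
  rw [← Category.assoc, IsClosedImmersion.lift_fac, hl]

variable [HenselianRing A I]

/-- Purity of the quotient makes restriction from the spectrum to the punctured quotient an equivalence. -/
theorem isEquivalence_comp_of_pure_quot
    (hB : (FEt.restrict (FEt.puncturedSpec (A ⧸ I)).ι).IsEquivalence) :
    (FEt.restrict (FEt.puncturedSpec A).ι ⋙ FEt.restrict (punctIdeal I).subschemeι).IsEquivalence := by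
  obtain ⟨e, he⟩ := exists_punct_iso I
  haveI := Groth.Agent.S0239.result A I
  haveI := hB
  haveI := Groth.Agent.PurePair.restrict_iso_isEquivalence e
  let c₁ := restrictComp (FEt.puncturedSpec (A ⧸ I)).ι (Spec.map (CommRingCat.ofHom (Ideal.Quotient.mk I))) _ rfl
  let c₂ := restrictComp e.hom ((punctIdeal I).subschemeι ≫ (FEt.puncturedSpec A).ι) _ he.symm
  let c₃ := restrictComp (punctIdeal I).subschemeι (FEt.puncturedSpec A).ι _ rfl
  haveI h1 : (FEt.restrict ((FEt.puncturedSpec (A ⧸ I)).ι ≫
      Spec.map (CommRingCat.ofHom (Ideal.Quotient.mk I)))).IsEquivalence := Functor.isEquivalence_of_iso c₁.symm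
  haveI : (FEt.restrict ((punctIdeal I).subschemeι ≫ (FEt.puncturedSpec A).ι) ⋙
      FEt.restrict e.hom).IsEquivalence := Functor.isEquivalence_of_iso c₂
  haveI : (FEt.restrict ((punctIdeal I).subschemeι ≫ (FEt.puncturedSpec A).ι)).IsEquivalence :=
    Functor.isEquivalence_of_comp_right _ (FEt.restrict e.hom)
  exact Functor.isEquivalence_of_iso c₃

/-- The quotient is pure if restriction to the closed subscheme of the punctured spectrum is an equivalence. -/
theorem isEquivalence_quot (hA : (FEt.restrict (FEt.puncturedSpec A).ι).IsEquivalence)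
    (hY : (FEt.restrict (punctIdeal I).subschemeι).IsEquivalence) :
    (FEt.restrict (FEt.puncturedSpec (A ⧸ I)).ι).IsEquivalence := by
  obtain ⟨e, he⟩ := exists_punct_iso I
  haveI := Groth.Agent.S0239.result A I
  haveI := hA
  haveI := hY
  haveI := Groth.Agent.PurePair.restrict_iso_isEquivalence e
  let c₁ := restrictComp (FEt.puncturedSpec (A ⧸ I)).ι (Spec.map (CommRingCat.ofHom (Ideal.Quotient.mk I))) _ rfl
  let c₂ := restrictComp e.hom ((punctIdeal I).subschemeι ≫ (FEt.puncturedSpec A).ι) _ he.symm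
  let c₃ := restrictComp (punctIdeal I).subschemeι (FEt.puncturedSpec A).ι _ rfl
  haveI : (FEt.restrict ((punctIdeal I).subschemeι ≫ (FEt.puncturedSpec A).ι)).IsEquivalence :=
    Functor.isEquivalence_of_iso c₃.symm
  haveI : (FEt.restrict ((FEt.puncturedSpec (A ⧸ I)).ι ≫
      Spec.map (CommRingCat.ofHom (Ideal.Quotient.mk I)))).IsEquivalence := Functor.isEquivalence_of_iso c₂.symm
  haveI : (FEt.restrict (Spec.map (CommRingCat.ofHom (Ideal.Quotient.mk I))) ⋙
      FEt.restrict (FEt.puncturedSpec (A ⧸ I)).ι).IsEquivalence := Functor.isEquivalence_of_iso c₁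
  exact Functor.isEquivalence_of_comp_left (FEt.restrict (Spec.map (CommRingCat.ofHom (Ideal.Quotient.mk I)))) _

/-- Effective Lefschetz and purity along the neighbourhoods make the quotient pure. -/
theorem isPurePair_quot [IsNoetherianRing A] (hleff : LefX.LeffCond (FEt.puncturedSpec A : Scheme.{u}) (punctIdeal I))
    (hpure : ∀ V : (Spec (CommRingCat.of A)).Opens,
      ((Spec.map (CommRingCat.ofHom (Ideal.Quotient.mk I))).ker.support : Set ↥(Spec (CommRingCat.of A))) ∩
        (FEt.puncturedSpec A : Set ↥(Spec (CommRingCat.of A))) ⊆ (V : Set ↥(Spec (CommRingCat.of A))) →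
      SGA2.IsPurePair (Spec (CommRingCat.of A)) V) :
    SGA2.IsPurePair (Spec (CommRingCat.of (A ⧸ I))) (FEt.puncturedSpec (A ⧸ I)) := by
  let U := FEt.puncturedSpec A
  haveI hA := isEquivalence_of_pair (hpure U Set.inter_subset_right)
  obtain ⟨hfull, hfaith⟩ := full_faithful_of_lefCond hleff.1
  haveI := hfull
  haveI := hfaith
  haveI : (FEt.restrict (punctIdeal I).subschemeι).EssSurj := ⟨fun R => by
    obtain ⟨V', R', hY, hR'⟩ := exists_nhd_extension hleff R
    let V := U.ι ''ᵁ V'
    have hsub : ((Spec.map (CommRingCat.ofHom (Ideal.Quotient.mk I))).ker.support :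
        Set ↥(Spec (CommRingCat.of A))) ∩ (U : Set ↥(Spec (CommRingCat.of A))) ⊆ (V : Set ↥(Spec (CommRingCat.of A))) := by
      rintro x ⟨hx, hxU⟩
      refine ⟨⟨x, hxU⟩, hY ?_, rfl⟩
      rw [Scheme.IdealSheafData.support_comap]
      exact hx
    have hVe := isEquivalence_of_pair (hpure V hsub)
    let j := V'.ι ≫ U.ι
    let e := IsOpenImmersion.isoOfRangeEq j V.ι (by
      rw [Scheme.Opens.range_ι, Scheme.Hom.comp_base, TopCat.coe_comp, Set.range_comp, Scheme.Opens.range_ι]
      rfl)
    haveI : (FEt.restrict j).IsEquivalence := Groth.Agent.PurePair.restrict_isEquivalence_of_iso _ _ e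
      (IsOpenImmersion.isoOfRangeEq_hom_fac _ _ _) hVe
    let i := IsOpenImmersion.lift V'.ι (punctIdeal I).subschemeι (by
      rw [Scheme.Opens.range_ι, Scheme.IdealSheafData.range_subschemeι]
      exact hY)
    have hi : i ≫ V'.ι = (punctIdeal I).subschemeι := IsOpenImmersion.lift_fac _ _ _
    obtain ⟨eR⟩ := hR' i hi
    let Z := (FEt.restrict j).objPreimage R'
    exact ⟨(FEt.restrict U.ι).obj Z, ⟨(restrictComp i V'.ι _ hi.symm).app _ ≪≫
      (FEt.restrict i).mapIso ((restrictComp V'.ι U.ι j rfl).symm.app Z ≪≫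
        (FEt.restrict j).objObjPreimageIso R') ≪≫ eR⟩⟩⟩
  haveI hY' : (FEt.restrict (punctIdeal I).subschemeι).IsEquivalence := { }
  exact VDimLib.isPurePair_puncturedSpec _ (isEquivalence_quot I hA hY')

end LeffEt

end
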