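import Groth.Agent.LeffEtLib.Disc
import Groth.Agent.CycBdlLib.Pts
import Groth.Agent.FlatnLib.Basic
import Groth.Agent.FinLFAnnLib.Main
import Groth.Agent.S1177
import Groth.Agent.S2733

/-!
# The finite étale scheme of an algebraised formal algebra
-/

set_option autoImplicit false
set_option linter.style.haveILetI false
set_option linter.unusedSectionVars false

universe u

open CategoryTheory CategoryTheory.Limits AlgebraicGeometry TopologicalSpace Opposite
open ProjFormLib (res IsFrame exists_frame)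
open KFlatLib (tens shTm)

noncomputable section

namespace LeffEt

variable {X : Scheme.{u}} {𝓙 : X.IdealSheafData} {E : X.Modules}

namespace FAlg

variable {F : FAlg 𝓙 E}

namespace Mult

variable (M : F.Mult)

/-- The laws of a multiplication. -/
structure Laws : Prop where
  comm : ∀ (V : X.Opens) (a b : Γ(E, V)), M.m V a b = M.m V b a
  assoc : ∀ (V : X.Opens) (a b c : Γ(E, V)), M.m V (M.m V a b) c = M.m V a (M.m V b c)
  one_m : ∀ (V : X.Opens) (a : Γ(E, V)), M.m V (res E le_top M.one) a = a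

theorem laws (hLef : ∀ D : X.Modules, FlatMod.IsFinLocFree D → Lef.HomToFormalBijective 𝓙 D) {Φ : F.Forms}
    (hperf : F.Perfect Φ) : M.Laws :=
  ⟨M.m_comm hLef hperf, M.m_assoc hLef hperf, M.one_m hLef hperf⟩

variable {M}

/-- The sections, as a ring. -/
def Sec (_ : M.Laws) (V : X.Opens) : Type u := Γ(E, V)

variable (hL : M.Laws)

instance (V : X.Opens) : AddCommGroup (Sec hL V) := inferInstanceAs (AddCommGroup Γ(E, V))

instance (V : X.Opens) : Module Γ(X, V) (Sec hL V) := inferInstanceAs (Module Γ(X, V) Γ(E, V))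

/-- A section, in the ring. -/
abbrev toSec {V : X.Opens} (a : Γ(E, V)) : Sec hL V := a

/-- An element of the ring, as a section. -/
abbrev ofSec {V : X.Opens} (a : Sec hL V) : Γ(E, V) := a

instance instCommRing (V : X.Opens) : CommRing (Sec hL V) :=
  { (inferInstance : AddCommGroup (Sec hL V)) with
    mul := fun a b => toSec hL (M.m V (ofSec hL a) (ofSec hL b))
    one := toSec hL (res E le_top M.one)
    mul_assoc := fun a b c => hL.assoc V a b c
    mul_comm := fun a b => hL.comm V a b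
    one_mul := fun a => hL.one_m V a
    mul_one := fun a => (hL.comm V a _).trans (hL.one_m V a)
    left_distrib := fun a b c => (M.m V (ofSec hL a)).map_add b c
    right_distrib := fun a b c => (M.m V).map_add₂ a b c
    zero_mul := fun a => (M.m V).map_zero₂ a
    mul_zero := fun a => (M.m V (ofSec hL a)).map_zero }

instance instAlgebra (V : X.Opens) : Algebra Γ(X, V) (Sec hL V) :=
  Algebra.ofModule (fun r a b => (M.m V).map_smul₂ r a b) fun r a b => (M.m V (ofSec hL a)).map_smul r b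

theorem algebraMap_eq {V : X.Opens} (r : Γ(X, V)) :
    algebraMap Γ(X, V) (Sec hL V) r = r • (1 : Sec hL V) :=
  Algebra.algebraMap_eq_smul_one r

/-- The restriction of sections as a ring map. -/
def secRes {V W : X.Opens} (h : W ≤ V) : Sec hL V →+* Sec hL W where
  toFun a := toSec hL (res E h (ofSec hL a))
  map_one' := res_res le_top h M.one
  map_mul' a b := M.res_m h a b
  map_zero' := res_zero h
  map_add' a b := res_add h a b

theorem secRes_algebraMap {V W : X.Opens} (h : W ≤ V) (r : Γ(X, V)) :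
    secRes hL h (algebraMap Γ(X, V) (Sec hL V) r) = algebraMap Γ(X, W) (Sec hL W) (rr h r) := by
  rw [algebraMap_eq, algebraMap_eq]
  exact (res_smul h r (res E le_top M.one)).trans (congrArg (_ • ·) (res_res le_top h M.one))

/-- The presheaf of rings. -/
def ringPre : TopCat.Presheaf CommRingCat.{u} X.carrier where
  obj U := CommRingCat.of (Sec hL U.unop)
  map i := CommRingCat.ofHom (secRes hL i.unop.le)
  map_id U := CommRingCat.hom_ext (RingHom.ext fun a => res_rfl (ofSec hL a))
  map_comp i j := CommRingCat.hom_ext (RingHom.ext fun a => (res_res i.unop.le j.unop.le (ofSec hL a)).symm)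

theorem isSheaf_ringPre : (ringPre hL).IsSheaf :=
  (TopCat.Presheaf.isSheaf_iff_isSheaf_comp (forget CommRingCat) _).mpr
    (TopCat.Presheaf.isSheaf_of_iso
      (NatIso.ofComponents (fun _ => Iso.refl _) (fun _ => by ext a; rfl) :
        E.presheaf ⋙ forget Ab ≅ ringPre hL ⋙ forget CommRingCat)
      ((TopCat.Presheaf.isSheaf_iff_isSheaf_comp (forget Ab) _).mp E.isSheaf))

/-- The structure map. -/
def ringStr : X.presheaf ⟶ ringPre hL where
  app U := CommRingCat.ofHom (algebraMap Γ(X, U.unop) (Sec hL U.unop))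
  naturality U V i := CommRingCat.hom_ext (RingHom.ext fun r => (secRes_algebraMap hL i.unop.le r).symm)

theorem isQC_ringStr [Coh.IsQCoh E] : RelSpec.IsQC (ringPre hL) (ringStr hL) := by
  intro U hU r
  letI : Module Γ(X, U) Γ(E, X.basicOpen r) := Module.compHom _ (rr (X.basicOpen_le r))
  let ρ : Γ(E, U) →ₗ[Γ(X, U)] Γ(E, X.basicOpen r) :=
    { toFun := fun a => res E (X.basicOpen_le r) a
      map_add' := res_add _
      map_smul' := fun a x => res_smul _ a x }
  have hloc := FlatnLib.isLocalizedModule_res E hU r (fun _ _ => rfl) ρ fun _ => rfl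
  letI : Algebra (Sec hL U) (Sec hL (X.basicOpen r)) := (secRes hL (X.basicOpen_le r)).toAlgebra
  show IsLocalization (Submonoid.powers (algebraMap Γ(X, U) (Sec hL U) r)) (Sec hL (X.basicOpen r))
  have hmap : ∀ (n : ℕ), secRes hL (X.basicOpen_le r) (algebraMap Γ(X, U) (Sec hL U) r ^ n) =
      algebraMap Γ(X, X.basicOpen r) _ (rr (X.basicOpen_le r) (r ^ n)) := fun n => by
    rw [← map_pow, secRes_algebraMap]
  refine ⟨fun y => ?_, fun z => ?_, fun {x y} hxy => ?_⟩
  · obtain ⟨_, n, rfl⟩ := y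
    show IsUnit (secRes hL (X.basicOpen_le r) (algebraMap Γ(X, U) (Sec hL U) r ^ n))
    rw [hmap, map_pow]
    exact ((RingedSpace.isUnit_res_basicOpen X.toRingedSpace r).pow n).map _
  · obtain ⟨⟨a, ⟨_, n, rfl⟩⟩, ha⟩ := hloc.surj (ofSec hL z)
    refine ⟨⟨toSec hL a, ⟨_, n, rfl⟩⟩, ?_⟩
    show z * secRes hL (X.basicOpen_le r) (algebraMap Γ(X, U) (Sec hL U) r ^ n) = secRes hL _ (toSec hL a)
    rw [hmap, mul_comm, ← Algebra.smul_def]
    exact ha
  · obtain ⟨⟨_, n, rfl⟩, hc⟩ := hloc.exists_of_eq (show ρ (ofSec hL x) = ρ (ofSec hL y) from hxy)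
    refine ⟨⟨_, n, rfl⟩, ?_⟩
    show algebraMap Γ(X, U) (Sec hL U) r ^ n * x = algebraMap Γ(X, U) (Sec hL U) r ^ n * y
    rw [← map_pow, ← Algebra.smul_def, ← Algebra.smul_def]
    exact hc

/-- The quasi-coherent algebra of a multiplication. -/
def alg : RelSpec.QCAlg X where
  presheaf := ringPre hL
  isSheaf := isSheaf_ringPre hL
  str := ringStr hL
  isQC := haveI := FinLFAnn.isQCoh_of_isFinLocFree F.hE; isQC_ringStr hL

theorem finite_str {V : X.Opens} (hV : IsAffineOpen V) : ((ringStr hL).app (op V)).hom.Finite := by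
  haveI := FinLFAnn.isQCoh_of_isFinLocFree F.hE
  have hfin : Module.Finite Γ(X, V) Γ(E, V) :=
    (Groth.Agent.S1177.finProj_affine (𝟙 X) E (KFlatLib.isFinLocFree_pull (𝟙 X) F.hE) hV).1
  haveI : Module.Finite Γ(X, V) (Sec hL V) := hfin
  show (algebraMap Γ(X, V) (Sec hL V)).Finite
  exact RingHom.finite_algebraMap.2 this

instance isIso_gammaAff {U : X.Opens} (hU : IsAffineOpen U) : IsIso ((alg hL).gammaAff U hU) := by
  rw [← (alg hL).gammaMap_app U hU]
  haveI := CycBdlLib.isIso_gammaMap (alg hL)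
  exact NatIso.isIso_app_of_isIso _ _

theorem π_app {U : X.Opens} (hU : IsAffineOpen U) :
    (alg hL).π.app U = (ringStr hL).app (op U) ≫
      @inv _ _ _ _ ((alg hL).gammaAff U hU) (isIso_gammaAff hL hU) := by
  haveI := isIso_gammaAff hL hU
  rw [IsIso.eq_comp_inv]
  exact (alg hL).π_app_gammaAff U hU

theorem isFinite_π : IsFinite (alg hL).π where
  finite_app U hU := by
    haveI := isIso_gammaAff hL hU
    rw [π_app hL hU, CommRingCat.hom_comp]
    exact RingHom.Finite.comp (RingHom.Finite.of_surjective _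
      (ConcreteCategory.bijective_of_isIso (inv ((alg hL).gammaAff U hU))).2) (finite_str hL hU)

end Mult

/-- Linear forms congruent on every level are equal. -/
theorem eq_of_congr (F : FAlg 𝓙 E) (hLef : ∀ D : X.Modules, FlatMod.IsFinLocFree D → Lef.HomToFormalBijective 𝓙 D)
    {D : X.Modules} (hD : FlatMod.IsFinLocFree D) {P Q : D ⟶ Coh.structureModule X}
    (h : ∀ n {V : X.Opens} (hV : Framed E V) (x : Γ(D, V)),
      (show Γ(X, V) from P.app V x) - (show Γ(X, V) from Q.app V x) ∈ (𝓙 ^ (n + 1)).ideal ⟨V, hV.1⟩) : P = Q :=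
  (hLef D hD).1 P Q fun n => FEtLefLib.hom_ext_basis (G := {V | Framed E V})
    (fun U x hx => exists_framed_near F.hE U x hx) fun _ hV x => (FEtLefLib.red_eq_iff _ hV.1 _ _).2 (h n hV x)

variable {Φ : F.Forms} {M : F.Mult}

theorem sum_lift {V : X.Opens} {r : ℕ} {b : Fin r → Γ(E, V)} (hb : IsFrame E b) (n : ℕ) (a : Γ(E, V)) :
    F.IsLiftMat n b (F.κ n V a) fun i j => (bas hb).repr (M.m V a (b i)) j := fun i =>
  (congrArg (F.κ n V) (sum_bas hb _)).trans (M.κ_m n V a (b i))

theorem trace_eq_sum {V : X.Opens} {r : ℕ} {b : Fin r → Γ(E, V)} (hb : IsFrame E b)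
    (f : Γ(E, V) →ₗ[Γ(X, V)] Γ(E, V)) :
    LinearMap.trace Γ(X, V) Γ(E, V) f = ∑ i, (bas hb).repr (f (b i)) i := by
  classical
  rw [LinearMap.trace_eq_matrix_trace _ (bas hb), Matrix.trace]
  refine Finset.sum_congr rfl fun i _ => ?_
  rw [Matrix.diag_apply, LinearMap.toMatrix_apply, bas_apply]

theorem repr_res {V W : X.Opens} (h : W ≤ V) {r : ℕ} {b : Fin r → Γ(E, V)} (hb : IsFrame E b) (x : Γ(E, V))
    (j : Fin r) : (bas (hb.res h)).repr (res E h x) j = rr h ((bas hb).repr x j) := by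
  conv_lhs => rw [← sum_bas hb x, res_eq_sum]
  refine Eq.trans (congrArg (fun y => (bas (hb.res h)).repr y j) (Finset.sum_congr rfl fun k _ => ?_))
    (congrFun ((bas (hb.res h)).repr_sum_self fun k => rr h ((bas hb).repr x k)) j)
  exact congrArg (_ • ·) (bas_apply (hb.res h) k).symm

/-- The trace of the multiplication is the linear form. -/
theorem trace_m (hLef : ∀ D : X.Modules, FlatMod.IsFinLocFree D → Lef.HomToFormalBijective 𝓙 D)
    {V : X.Opens} (hV : Framed E V) (a : Γ(E, V)) : LinearMap.trace Γ(X, V) Γ(E, V) (M.m V a) = Φ.ε V a := by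
  obtain ⟨P, hP⟩ := FEtLefLib.exists_hom_of_basis (E := E) (M := Coh.structureModule X) (G := {V | Framed E V})
    (fun U x hx => exists_framed_near F.hE U x hx)
    (fun V _ => (LinearMap.trace Γ(X, V) Γ(E, V)).comp (M.m V))
    fun V hV W hW x hxV hxW => by
      obtain ⟨T, hT, hxT, hTle⟩ := exists_framed_near F.hE (V ⊓ W) x ⟨hxV, hxW⟩
      have k : ∀ {U : X.Opens} (hU : Framed E U) (e : T ≤ U) (z : Γ(E, U)),
          rr e (LinearMap.trace Γ(X, U) Γ(E, U) (M.m U z)) =
            LinearMap.trace Γ(X, T) Γ(E, T) (M.m T (res E e z)) := fun {U} hU e z => by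
        obtain ⟨r, b, hb⟩ := hU.2
        rw [trace_eq_sum hb, trace_eq_sum (hb.res e), map_sum]
        exact Finset.sum_congr rfl fun i _ => by rw [← M.res_m, repr_res]
      exact ⟨T, hT, hTle.trans inf_le_left, hTle.trans inf_le_right, hxT, k hV _, k hW _⟩
  let Q : E ⟶ Coh.structureModule X :=
    ⟨PresheafOfModules.homMk
      { app := fun U => AddCommGrpCat.ofHom (Φ.ε U.unop).toAddMonoidHom
        naturality := fun U W i => by
          ext x
          exact (Φ.ε_res i.unop.le x).symm }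
      (fun U s x => map_smul (Φ.ε U.unop) (show Γ(X, U.unop) from s) x)⟩
  have e : P = Q := F.eq_of_congr hLef F.hE fun n W hW x => by
    rw [hP W hW]
    obtain ⟨r, b, hb⟩ := hW.2
    show LinearMap.trace Γ(X, W) Γ(E, W) (M.m W x) - Φ.ε W x ∈ _
    have := Φ.ε_spec n hW x r b hb _ (sum_lift (M := M) hb n x)
    rw [trace_eq_sum hb, ← neg_sub]
    exact Submodule.neg_mem _ this
  exact (hP V hV a).symm.trans (congr($(congrArg (fun f : E ⟶ Coh.structureModule X =>
    Scheme.Modules.Hom.app f V) e) a))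

/-- The bilinear form is the linear form of the product. -/
theorem ε_m (hLef : ∀ D : X.Modules, FlatMod.IsFinLocFree D → Lef.HomToFormalBijective 𝓙 D)
    (V : X.Opens) (a c : Γ(E, V)) : Φ.ε V (M.m V a c) = Φ.β V a c := by
  obtain ⟨P, hP⟩ := exists_hom2 (P := Coh.structureModule X) (fun V => (M.m V).compr₂ (Φ.ε V))
    fun V W h a c => (Φ.ε_res h (M.m W a c)).trans (congrArg (Φ.ε V) (M.res_m h a c))
  obtain ⟨Q, hQ⟩ := exists_hom2 (P := Coh.structureModule X) (fun V => Φ.β V) fun V W h a c => Φ.β_res h a c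
  have e : P = Q := by
    refine (hLef _ (Groth.Agent.S1063.isFinLocFree_tens F.hE F.hE)).1 P Q fun n => hom2_ext fun V a c => ?_
    refine FEtLefLib.eq_of_near _ fun x hx => ?_
    obtain ⟨W, hW, hxW, hWV⟩ := exists_framed_near F.hE V x hx
    refine ⟨W, hWV, hxW, (app_res (P ≫ ClSub.toSubscheme (𝓙 ^ (n + 1))) hWV _).trans
      (Eq.trans ?_ (app_res (Q ≫ ClSub.toSubscheme (𝓙 ^ (n + 1))) hWV _).symm)⟩
    rw [ProjFormLib.shTm_res]
    show FEtLefLib.red _ W (P.app W (shTm _ _)) = FEtLefLib.red _ W (Q.app W (shTm _ _))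
    rw [hP, hQ]
    refine (FEtLefLib.red_eq_iff _ hW.1 _ _).2 (F.sub_mem_of_isTr n hW ?_ (Φ.β_spec n hW _ _))
    rw [← M.κ_m]
    exact Φ.ε_spec n hW _
  exact (hP V a c).symm.trans ((congr($(congrArg (fun f : tens E E ⟶ Coh.structureModule X =>
    Scheme.Modules.Hom.app f V) e) (shTm a c))).trans (hQ V a c))

theorem etale_str (hLef : ∀ D : X.Modules, FlatMod.IsFinLocFree D → Lef.HomToFormalBijective 𝓙 D)
    (hL : M.Laws) {V : X.Opens} (hV : F.PerfV Φ V) : ((Mult.ringStr hL).app (op V)).hom.Etale := by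
  obtain ⟨-, r, b, hb, -⟩ := id hV
  show (algebraMap Γ(X, V) (Mult.Sec hL V)).Etale
  refine RingHom.etale_algebraMap.2 ?_
  let bs : Module.Basis (Fin r) Γ(X, V) (Mult.Sec hL V) := bas hb
  haveI : Module.Finite Γ(X, V) (Mult.Sec hL V) := Module.Finite.of_basis bs
  haveI : Module.Free Γ(X, V) (Mult.Sec hL V) := Module.Free.of_basis bs
  have htr : ∀ z : Mult.Sec hL V, Algebra.trace Γ(X, V) (Mult.Sec hL V) z = Φ.ε V z := fun z => by
    rw [Algebra.trace_eq_matrix_trace bs, Matrix.trace, ← trace_m (M := M) hLef hV.framed z, trace_eq_sum hb]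
    refine Finset.sum_congr rfl fun i _ => ?_
    rw [Matrix.diag_apply, Algebra.leftMulMatrix_eq_repr_mul]
    exact congrArg (fun y => (bas hb).repr (M.m V z y) i) (bas_apply hb i)
  refine (Groth.Agent.S2733.result Γ(X, V) (Mult.Sec hL V)).2 ?_
  have hform : ∀ a c : Mult.Sec hL V, Algebra.traceForm Γ(X, V) (Mult.Sec hL V) a c = Φ.β V a c := fun a c =>
    (Algebra.traceForm_apply Γ(X, V) a c).trans ((htr _).trans (ε_m hLef V a c))
  have e : ⇑(Algebra.traceForm Γ(X, V) (Mult.Sec hL V)) = ⇑(Φ.β V) :=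
    funext fun a => LinearMap.ext (hform a)
  rw [e]
  exact bijective_β hV

theorem etale_π (hLef : ∀ D : X.Modules, FlatMod.IsFinLocFree D → Lef.HomToFormalBijective 𝓙 D)
    (hperf : F.Perfect Φ) (hL : M.Laws) : Etale (Mult.alg hL).π := by
  refine (HasRingHomProperty.iff_exists_appLE (P := @Etale)
    (RingHom.Etale.stableUnderComposition.stableUnderCompositionWithLocalizationAway
      (fun R S _ _ _ r _ => RingHom.etale_algebraMap.2 (Algebra.Etale.of_isLocalizationAway r))).1).2 fun z => ?_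
  obtain ⟨W, hW, hzW⟩ := hperf ((Mult.alg hL).π z)
  refine ⟨⟨W, hW.1⟩, ⟨(Mult.alg hL).π ⁻¹ᵁ W, hW.1.preimage _⟩, hzW, le_rfl, ?_⟩
  rw [← Scheme.Hom.app_eq_appLE]
  haveI := Mult.isIso_gammaAff hL hW.1
  show ((Mult.alg hL).π.app W).hom.Etale
  rw [Mult.π_app hL hW.1, CommRingCat.hom_comp]
  exact RingHom.Etale.stableUnderComposition _ _ (etale_str hLef hL hW)
    (RingHom.Etale.of_bijective (ConcreteCategory.bijective_of_isIso (inv ((Mult.alg hL).gammaAff W hW.1))))

end FAlg

end LeffEt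

end
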